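import Cfsg.Agent.H715.Mon.Cent
import Cfsg.Agent.H715.Fpr.RowTools
import Cfsg.Agent.H384.LargeIdxB
import Cfsg.Agent.H180.TriH.Cover
import Cfsg.Agent.H979.OddB

/-!
# The rows `p = 17, 19, 31` of the sharp table of fixed point ratios for the Baby Monster (helper715)

* `cent_le` : `2 |C_B(y)| ≤ |C_M(x)|`;
* `rowIso` : `FprRow (p + 1) 1 p` for `Spor.IsoB`, `p = 17, 19, 31`.
-/

set_option autoImplicit false
set_option maxRecDepth 100000
open Subgroup MulAction

namespace Cfsg.Agent.H715.Mon.RowB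

open Cfsg Cfsg.Agent.MonsterX Cfsg.Agent.MonsterX.InstData
open Cfsg.Agent.H979.CovLift
open Cfsg.Agent.H409 (FprRow)
open Cfsg.Agent.H940.Eng (Base)
open Cfsg.Agent.H715.Mon.Cent Cfsg.Agent.H715.Mon.Grp
open Cfsg.Agent.H241.Mon (Gam)

universe u

/-- **centralizers in `B` and in `M`** -/
theorem exists_cent {L : Type u} [Group L] [Finite L] (h : Spor.IsoB L) {p : ℕ} (hp : p.Prime) (hp2 : p ≠ 2)
    {y : L} (hy : orderOf y = p) : ∃ x : Gam, orderOf x = p ∧
      Nat.card ↥(centralizer ({y} : Set L)) * 2 ∣ Nat.card ↥(centralizer ({x} : Set Gam)) := by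
  obtain ⟨t, ht, h2, ⟨e⟩⟩ := H979.OddB.exists_cover h
  obtain ⟨x, hx, hx'⟩ := exists_lift h2 hp hp2 (x := e.symm y) (by rw [MulEquiv.orderOf_eq, hy])
  have h1 := Cfsg.Agent.H180.TH.Baby.card_quot h2 e (x := x) (n := p) (hp.odd_of_ne_two hp2)
    (by rw [← hx, pow_orderOf_eq_one])
  rw [hx', e.apply_symm_apply] at h1
  refine ⟨x, by rw [Subgroup.orderOf_coe, hx], ?_⟩
  rw [← h1]
  exact card_dvd_of_le inf_le_left

/-- the row from a bound of the centralizers -/
theorem row_of {L : Type u} [Group L] [Finite L] (h : Spor.IsoB L) {p c : ℕ} (hp : p.Prime) (hp2 : p ≠ 2)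
    (hd : p ∣ 4154781481226426191177580544000000) (h2 : ¬ p ^ 2 ∣ 4154781481226426191177580544000000)
    (hc : ∀ y : Gam, orderOf y = p → Nat.card (centralizer ({y} : Set Gam)) ≤ c * p)
    (hle : (p + 1) * ((p - 1) * c) ≤ 2752512) : FprRow (p + 1) 1 p L := by
  have hF : Fact p.Prime := ⟨hp⟩
  have hcard := NotCT.Orders.b h
  intro H hH
  have hN : ∀ R : Subgroup L, Nat.card R = p → Nat.card (normalizer (R : Set L)) ≤ (p - 1) * (c * p) := by
    intro R hR
    refine (H715.Fpr.card_normalizer_le hp hR).trans (Nat.mul_le_mul_left _ ?_)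
    obtain ⟨y, hy⟩ := exists_prime_orderOf_dvd_card' (G := R) p (by rw [hR])
    have h4 : orderOf (y : L) = p := by rw [Subgroup.orderOf_coe, hy]
    obtain ⟨x, hx, hxd⟩ := exists_cent h hp hp2 h4
    have h5 := Nat.le_of_dvd Nat.card_pos hxd
    have h6 := hc x hx
    have h7 : Nat.card ↥(centralizer (R : Set L)) ≤ Nat.card ↥(centralizer ({(y : L)} : Set L)) := by
      refine Nat.card_mono (Set.toFinite _) ?_
      intro g hg
      rw [SetLike.mem_coe, mem_centralizer_singleton_iff]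
      exact (mem_centralizer_iff.1 hg y y.2).symm
    omega
  obtain ⟨x, hx, h3, -⟩ := H715.Fpr.fix_prime hp (by rw [hcard]; exact hd) (by rw [hcard]; exact h2) hN H
  refine ⟨x, hx, ?_⟩
  obtain ⟨e⟩ := h
  have h4 : 2752512 ≤ H.index := (H384.LargeIdxB.baby.congr e.symm).index H hH
  have h5 : Nat.card (fixedBy (L ⧸ H) x) ≤ (p - 1) * c := by
    refine Nat.le_of_mul_le_mul_left (c := p) ?_ hp.pos
    calc p * Nat.card (fixedBy (L ⧸ H) x) ≤ (p - 1) * (c * p) := h3
      _ = p * ((p - 1) * c) := by ring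
  rw [one_mul]
  exact ((Nat.mul_le_mul_left (p + 1) h5).trans hle).trans h4

/-- **`FprRow (p + 1) 1 p` for the Baby Monster, `p = 17, 19, 31`** -/
theorem rowIso (B : Base) {S : Type u} [Group S] (h : Spor.IsoB S) {p : ℕ} (hp : p = 17 ∨ p = 19 ∨ p = 31) :
    FprRow (p + 1) 1 p S := by
  have : Finite S := Nat.finite_of_card_ne_zero (by rw [NotCT.Orders.b h]; norm_num)
  rcases hp with rfl | rfl | rfl
  · exact row_of h (c := 168) (by norm_num) (by norm_num) (by norm_num) (by norm_num)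
      (fun y hy => Nat.le_of_dvd (by norm_num) (Cfsg.Agent.H241.Mon.card_seventeen (three B) hy)) (by norm_num)
  · exact row_of h (c := 60) (by norm_num) (by norm_num) (by norm_num) (by norm_num)
      (fun y hy => card19 (sThree B) hy) (by norm_num)
  · exact row_of h (c := 6) (by norm_num) (by norm_num) (by norm_num) (by norm_num)
      (fun y hy => (card31 (sThree B) hy).le) (by norm_num)

end Cfsg.Agent.H715.Mon.RowB
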