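import Cfsg.Agent.H715.Mon.GrpB
import Cfsg.Agent.H715.Mon.RowB
import Cfsg.Agent.H451.Weak.MLarge

/-!
# Centralizers of elements of orders 17, 19, 23, 31 of the Monster and the Baby Monster (helper715)

* `M.cent17`, `M.cent19`, `M.cent23`, `M.cent31` : orders of centralizers in groups with `Spor.IsoM`;
* `B.cent19`, `B.cent23`, `B.cent31` : orders of centralizers in groups with `Spor.IsoB`.

`SThree.{0}` is `fun _ _ _ X hX hC => S3331.result X hX hC`.
-/

set_option autoImplicit false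
set_option maxRecDepth 100000
open Subgroup

namespace Cfsg.Agent.H715.Mon.Exact

open Cfsg Cfsg.Agent.H241.NH Cfsg.Agent.H241.Mon Cfsg.Agent.H630.NH
open Cfsg.Agent.MonsterX Cfsg.Agent.MonsterX.InstData Cfsg.Agent.MonsterX.MainPack
open Cfsg.Agent.Co2Type.Quad (Large)
open Cfsg.Agent.LThreeMB (fr)
open Cfsg.Agent.MonsterX.Model Cfsg.Agent.MonsterX.MainBasic Cfsg.Agent.MonsterX.MainSimple
open Cfsg.Agent.LThreeMB (XX mk exists_mk mk_eq_one mk_eq_mk Zx self)
open Cfsg.Agent.H715.Mon.Cent Cfsg.Agent.H715.Mon.Grp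

universe u

section quot

variable {G : Type u} [Group G]

/-- involutions equal modulo `⟨y⟩` -/
theorem eq_of_mk {y s s' : G} {r : ℕ} (hr : Odd r) (hy : orderOf y = r) (h1 : s * s = 1) (h1' : s' * s' = 1)
    (hs : s * y = y * s) (hs' : s' * y = y * s') (h : mk y hs = mk y hs') : s = s' := by
  obtain ⟨i, hi⟩ := (mk_eq_mk hs hs').1 h
  have h2 : y ^ i * y ^ i = 1 := by
    have h3 : Commute s (y ^ i) := (show Commute s y from hs).zpow_right i
    calc y ^ i * y ^ i = (s * s) * (y ^ i * y ^ i) := by rw [h1, one_mul]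
      _ = s * (s * y ^ i) * y ^ i := by simp only [mul_assoc]
      _ = s * (y ^ i * s) * y ^ i := by rw [h3.eq]
      _ = (s * y ^ i) * (s * y ^ i) := by simp only [mul_assoc]
      _ = 1 := by rw [hi, h1']
  have h3 : (y ^ i) ^ r = 1 := by
    rw [← zpow_natCast, ← zpow_mul, mul_comm, zpow_mul, zpow_natCast, ← hy, pow_orderOf_eq_one, one_zpow]
  have h4 : y ^ i = 1 := by
    obtain ⟨k, hk⟩ := hr
    rw [hk, pow_succ, pow_mul, pow_two, h2, one_pow, one_mul] at h3
    exact h3
  rw [← hi, h4, mul_one]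

/-- elements commuting with an involution modulo `⟨y⟩` -/
theorem comm_of_mk {y s g : G} {r : ℕ} (hr : Odd r) (hy : orderOf y = r) (h1 : s * s = 1)
    (hs : s * y = y * s) (hg : g * y = y * g) (h : mk y hg * mk y hs = mk y hs * mk y hg) : g * s = s * g := by
  have h2 : (g * s * g⁻¹) * (g * s * g⁻¹) = 1 := by
    calc (g * s * g⁻¹) * (g * s * g⁻¹) = g * (s * s) * g⁻¹ := by group
      _ = 1 := by rw [h1]; group
  have h3 : mk y (LThreeMB.conj_comm hg hs) = mk y hs := by
    have h4 : mk y (LThreeMB.conj_comm hg hs) = mk y hg * mk y hs * (mk y hg)⁻¹ := rfl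
    rw [h4, h, mul_inv_cancel_right]
  exact mul_inv_eq_iff_eq_mul.1 (eq_of_mk hr hy h2 h1 _ hs h3)

/-- **`|C(y) ∩ C(s)| = |C_K(s)| r`**, `K = C(y)/⟨y⟩` -/
theorem card_inf [Finite G] {y s : G} {r : ℕ} (hr : Odd r) (hy : orderOf y = r) (hs2 : s * s = 1) (hs : s * y = y * s) :
    Nat.card ↥(centralizer ({y} : Set G) ⊓ centralizer ({s} : Set G)) =
      Nat.card (centralizer ({mk y hs} : Set (XX y))) * r := by
  let C : Subgroup G := centralizer ({y} : Set G)
  let H : Subgroup (XX y) := centralizer ({mk y hs} : Set (XX y))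
  let D : Subgroup C := H.comap (QuotientGroup.mk' (Zx y))
  have h1 : D.map C.subtype = C ⊓ centralizer ({s} : Set G) := by
    ext g
    constructor
    · rintro ⟨g, hg, rfl⟩
      refine ⟨g.2, ?_⟩
      have hg' := mem_centralizer_singleton_iff.1 (mem_comap.1 hg)
      exact mem_centralizer_singleton_iff.2
        (comm_of_mk hr hy hs2 hs (mem_centralizer_singleton_iff.1 g.2) hg')
    · rintro ⟨hg, hgs⟩
      refine ⟨⟨g, hg⟩, ?_, rfl⟩
      show (⟨g, hg⟩ : C) ∈ H.comap (QuotientGroup.mk' (Zx y))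
      rw [mem_comap, mem_centralizer_singleton_iff]
      apply congrArg (QuotientGroup.mk (s := Zx y))
      exact Subtype.ext (mem_centralizer_singleton_iff.1 hgs)
  have h0 : Nat.card ↥(centralizer ({y} : Set G) ⊓ centralizer ({s} : Set G)) = Nat.card D := by
    rw [← h1, card_map_of_injective C.subtype_injective]
  rw [h0]
  have h2 : D.index = H.index := index_comap_of_surjective _ (QuotientGroup.mk'_surjective _)
  have h3 := D.card_mul_index
  have h4 := H.card_mul_index
  have h5 : Nat.card C = Nat.card (XX y) * r := by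
    have h6 := (Zx y).card_eq_card_quotient_mul_card_subgroup
    have h7 : Nat.card (Zx y) = r := by
      show Nat.card (zpowers (self y)) = r
      rw [Nat.card_zpowers, ← hy]
      exact Subgroup.orderOf_mk y _
    rw [h7] at h6
    exact h6
  rw [h5, ← h4, h2] at h3
  have h6 : H.index ≠ 0 := index_ne_zero_of_finite
  refine Nat.eq_of_mul_eq_mul_right (Nat.pos_of_ne_zero h6) ?_
  calc Nat.card D * H.index = Nat.card H * H.index * r := h3
    _ = Nat.card H * r * H.index := by ring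

/-- conjugation -/
theorem card_inf_conj (g y s : G) :
    Nat.card ↥(centralizer ({g * y * g⁻¹} : Set G) ⊓ centralizer ({g * s * g⁻¹} : Set G)) =
      Nat.card ↥(centralizer ({y} : Set G) ⊓ centralizer ({s} : Set G)) := by
  have h1 := centralizer_map_equiv (MulAut.conj g) y
  have h2 := centralizer_map_equiv (MulAut.conj g) s
  rw [MulAut.conj_apply] at h1 h2
  rw [h1, h2]
  have h3 : (centralizer ({y} : Set G)).map (MulAut.conj g : G →* G) ⊓
      (centralizer ({s} : Set G)).map (MulAut.conj g : G →* G) =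
      (centralizer ({y} : Set G) ⊓ centralizer ({s} : Set G)).map (MulAut.conj g : G →* G) :=
    (map_inf _ _ _ (MulAut.conj g).injective).symm
  rw [h3]
  exact card_map_of_injective (MulAut.conj g).injective

end quot

/-- an involution commuting with `y` -/
theorem exists_t {r : ℕ} (hr : r.Prime) (hsq : ¬ r ^ 2 ∣ Nat.card Gam)
    (hd : r ∣ 2 * 4154781481226426191177580544000000) {y : Gam} (hy : orderOf y = r) :
    ∃ t : Gam, orderOf t = 2 ∧ t * y = y * t ∧
      Nat.card (centralizer ({t} : Set Gam)) = 2 * 4154781481226426191177580544000000 := by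
  have hF : Fact (Nat.Prime r) := ⟨hr⟩
  obtain ⟨t, ht, -, hct, -⟩ := exists_cov
  obtain ⟨u0, hu0⟩ := exists_prime_orderOf_dvd_card' (G := centralizer ({t} : Set Gam)) r (by rw [hct]; exact hd)
  have hu0' : orderOf (u0 : Gam) = r := by rw [Subgroup.orderOf_coe, hu0]
  obtain ⟨g, -, n, hn⟩ := H241.Mon.conj_of_not_sq hr hsq hy hu0'
  have hn : (g * (u0 : Gam) * g⁻¹) ^ n = y := hn
  have h1 : Commute (g * t * g⁻¹) (g * (u0 : Gam) * g⁻¹) := by
    show g * t * g⁻¹ * (g * (u0 : Gam) * g⁻¹) = g * (u0 : Gam) * g⁻¹ * (g * t * g⁻¹)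
    have h5 : (u0 : Gam) * t = t * u0 := mem_centralizer_singleton_iff.1 u0.2
    calc g * t * g⁻¹ * (g * (u0 : Gam) * g⁻¹) = g * (t * u0) * g⁻¹ := by group
      _ = g * (u0 * t) * g⁻¹ := by rw [h5]
      _ = _ := by group
  refine ⟨g * t * g⁻¹, by rw [order_conj, ht], ?_, by rw [card_conj', hct]⟩
  rw [← hn]; exact (h1.zpow_right n).eq

theorem mul_self_of {G : Type*} [Group G] {t : G} (ht : orderOf t = 2) : t * t = 1 := by
  rw [← pow_two, ← ht, pow_orderOf_eq_one]

/-- the order of the image of an involution -/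
theorem order_two {y t : Gam} {r : ℕ} (hr : r.Prime) (hr6 : 6 < r) (hy : orderOf y = r) (ht : orderOf t = 2)
    (h : t * y = y * t) : orderOf (mk y h) = 2 := by
  rw [order_mk hr hr6 hy h (by rw [ht]; norm_num) (by rw [ht]; norm_num), ht]

/-- **Elements of order 17.** -/
theorem card17 (h3 : SThree.{0}) {y : Gam} (hy : orderOf y = 17) :
    Nat.card (centralizer ({y} : Set Gam)) = 168 * 17 := by
  have h17 : Nat.Prime 17 := by norm_num
  have hz : ¬ 17 ∣ 2 ^ 25 * 4157776806543360000 := by norm_num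
  have hsq : ¬ 17 ^ 2 ∣ Nat.card Gam := by rw [card_G]; norm_num
  obtain ⟨v, hv, hvy⟩ := exists_three (r := 17) h17 (by norm_num) hsq fi17 hy
  obtain ⟨w, hw, hwy⟩ := exists_seven hy
  obtain ⟨k1, k2⟩ := hvy.quot Nat.prime_three h17 (by norm_num) hv hy
  obtain ⟨k3, k4⟩ := hwy.quot (by norm_num) h17 (by norm_num) hw hy
  obtain ⟨t, ht, hty, -⟩ := exists_t h17 hsq (by norm_num) hy
  have h2 : 2 ∣ Nat.card (XX y) := by
    rw [← order_two h17 (by norm_num) hy ht hty]
    exact orderOf_dvd_natCard _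
  rw [card_XX hy, card_168 h3 k1 k2 k3 k4 h2 (fun a b ha hb => (products h17 (by norm_num) hz hy ha hb).1)]

/-- `C(y)/⟨y⟩ ≅ A₅` -/
theorem iso19 (h3 : SThree.{0}) {y : Gam} (hy : orderOf y = 19) : Nonempty (XX y ≃* alternatingGroup (Fin 5)) := by
  have h19 : Nat.Prime 19 := by norm_num
  have hz : ¬ 19 ∣ 2 ^ 25 * 4157776806543360000 := by norm_num
  have hsq : ¬ 19 ^ 2 ∣ Nat.card Gam := by rw [card_G]; norm_num
  have : Finite Spor.Th := Nat.finite_of_card_ne_zero (by rw [S1700.result.2]; norm_num)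
  have : Finite Spor.HN := Nat.finite_of_card_ne_zero (by rw [S1701.result.2]; norm_num)
  obtain ⟨v, hv, hvy⟩ := exists_three' h19 (by norm_num) hsq
    (self_of_card h19 (by rw [S1700.result.2]; norm_num) fun y hy => H491.PB.Th.card_nineteen hy) hy
  obtain ⟨w, hw, hwy⟩ := exists_five' h19 (by norm_num) hsq
    (self_of_card h19 (by rw [S1701.result.2]; norm_num) fun y hy => H315.PwHN.card_nineteen hy) hy
  obtain ⟨k1, k2⟩ := hvy.quot Nat.prime_three h19 (by norm_num) hv hy
  obtain ⟨k3, k4⟩ := hwy.quot Nat.prime_five h19 (by norm_num) hw hy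
  refine iso_alt h3 k1 k2 k3 k4 (l := [od 1, od 4, od 7]) (by simp) ?_
  intro a b ha hb hab
  obtain ⟨u, hu0, hu, hud⟩ := (products h19 (by norm_num) hz hy ha hb).2 hab
  rw [hu]
  rcases u19 u hu0 hud with rfl | rfl | rfl <;> simp

/-- **Elements of order 19.** -/
theorem card19' (h3 : SThree.{0}) {y : Gam} (hy : orderOf y = 19) :
    Nat.card (centralizer ({y} : Set Gam)) = 60 * 19 := by
  obtain ⟨e⟩ := iso19 h3 hy
  rw [card_XX hy, Nat.card_congr e.toEquiv, card_alt_five]

theorem inf19 (h3 : SThree.{0}) {y : Gam} (hy : orderOf y = 19) {t : Gam} (ht : orderOf t = 2) (h : t * y = y * t) :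
    Nat.card ↥(centralizer ({y} : Set Gam) ⊓ centralizer ({t} : Set Gam)) = 4 * 19 := by
  obtain ⟨e⟩ := iso19 h3 hy
  rw [card_inf (by decide) hy (mul_self_of ht) h, LThreeB.card_centralizer_congr e (mk y h), card_cent_alt]
  rw [MulEquiv.orderOf_eq, order_two (by norm_num) (by norm_num) hy ht h]

/-- **`a, b ∈ Q` commuting with `y`, `[a, b] = z`.** -/
theorem exists_pair_fix' {G : Type u} [Group G] [Finite G] {Q : Subgroup G} {z : G} (L : Large Q z)
    (hQ : Nat.card Q = 2 ^ 25) {y : G} {r : ℕ} (hr : r.Prime) (hr2 : r ≠ 2) (hr24 : ¬ r ∣ 2 ^ 24 - 1) (hy : orderOf y = r)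
    (hyz : y * z = z * y) : ∃ a b : G, a ∈ Q ∧ b ∈ Q ∧ a * y = y * a ∧ b * y = y * b ∧ a * b ≠ b * a := by
  have h2 : ¬ r ∣ 2 ^ 24 := fun h => hr2 ((Nat.prime_dvd_prime_iff_eq hr Nat.prime_two).1 (hr.dvd_of_dvd_pow h))
  have hconj : ∀ s ∈ Q, y * s * y⁻¹ ∈ Q := L.conj_mem y hyz
  -- `a`
  obtain ⟨a, ⟨haQ, ha1, haz⟩, hay⟩ := exists_fixed hr hy {s : G | s ∈ Q ∧ s ≠ 1 ∧ s ≠ z} (by
    rintro s ⟨hs, hs1, hsz⟩
    refine ⟨hconj s hs, fun h => hs1 ?_, fun h => hsz ?_⟩
    · calc s = y⁻¹ * (y * s * y⁻¹) * y := by group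
        _ = 1 := by rw [h]; group
    · calc s = y⁻¹ * (y * s * y⁻¹) * y := by group
        _ = y⁻¹ * (y * z) := by rw [h, mul_assoc, hyz]
        _ = z := by group) (by
    have h3 : (Q : Set G) = {s : G | s ∈ Q ∧ s ≠ 1 ∧ s ≠ z} ∪ {1, z} := by
      ext s
      constructor
      · intro hs
        by_cases h1 : s = 1
        · exact Or.inr (by simp [h1])
        · by_cases h2 : s = z
          · exact Or.inr (by simp [h2])
          · exact Or.inl ⟨hs, h1, h2⟩
      · rintro (hs | hs)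
        · exact hs.1
        · rcases hs with rfl | hs
          · exact Q.one_mem
          · rw [Set.mem_singleton_iff.1 hs]; exact L.z_mem
    have h4 : Disjoint {s : G | s ∈ Q ∧ s ≠ 1 ∧ s ≠ z} {1, z} := by
      rw [Set.disjoint_left]
      rintro s ⟨-, h1, h2⟩ h3
      rcases h3 with h3 | h3
      · exact h1 h3
      · exact h2 h3
    have h5 : Nat.card (Q : Set G) = 2 ^ 25 := hQ
    rw [h3, Nat.card_coe_set_eq, Set.ncard_union_eq h4 (Set.toFinite _) (Set.toFinite _),
      Set.ncard_pair L.z_ne.symm] at h5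
    rw [Nat.card_coe_set_eq]
    intro hd
    have h6 : (Set.ncard {s : G | s ∈ Q ∧ s ≠ 1 ∧ s ≠ z}) = 2 * (2 ^ 24 - 1) := by
      norm_num at h5 ⊢
      omega
    rw [h6] at hd
    rcases hr.dvd_mul.1 hd with h | h
    · exact hr2 ((Nat.prime_dvd_prime_iff_eq hr Nat.prime_two).1 h)
    · exact hr24 h)
  obtain ⟨b, ⟨hbQ, hab⟩, hby⟩ := exists_fixed hr hy {b : G | b ∈ Q ∧ a * b ≠ b * a} (by
    rintro s ⟨hs, hsa⟩
    refine ⟨hconj s hs, fun h => hsa ?_⟩
    have h1 : y⁻¹ * (a * (y * s * y⁻¹)) * y = y⁻¹ * (y * s * y⁻¹ * a) * y := by rw [h]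
    have h2 : y⁻¹ * (a * (y * s * y⁻¹)) * y = a * s := by
      calc y⁻¹ * (a * (y * s * y⁻¹)) * y = y⁻¹ * (a * y) * s := by group
        _ = a * s := by rw [← hay]; group
    have h3 : y⁻¹ * (y * s * y⁻¹ * a) * y = s * a := by
      calc y⁻¹ * (y * s * y⁻¹ * a) * y = s * y⁻¹ * (a * y) := by group
        _ = s * a := by rw [← hay]; group
    rw [h2, h3] at h1
    exact h1) (by
    have h1 := card_noncomm L haQ ha1 haz
    rw [hQ] at h1
    intro hd
    apply h2
    have h3 : Nat.card {b : G | b ∈ Q ∧ a * b ≠ b * a} = 2 ^ 24 := by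
      norm_num at h1 ⊢
      omega
    rwa [h3] at hd)
  exact ⟨a, b, haQ, hbQ, hay.symm, hby.symm, hab⟩

/-- the involution `z` in `C(y)/⟨y⟩`, `y` of order 23 -/
theorem oct23 {y : Gam} (hy : orderOf y = 23) (hzy : KDone.K.z * y = y * KDone.K.z) : Oct (XX y) (mk y hzy) := by
  have h23 : Nat.Prime 23 := by norm_num
  have hsq : ¬ 23 ^ 2 ∣ Nat.card Gam := by rw [card_G]; norm_num
  obtain ⟨a, b, haQ, hbQ, hay, hby, hab⟩ := exists_pair_fix' chart.large chart.card_Q (r := 23) h23 (by norm_num)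
    (by norm_num) hy hzy.symm
  have haz := chart.large.comm_z a haQ
  have hbz := chart.large.comm_z b hbQ
  refine oct (a := mk y hay) (b := mk y hby) (order_two h23 (by norm_num) hy z_order hzy) ?_ ?_ ?_ ?_
  · have h1 := card_inf (by decide) hy chart.large.z_sq hzy
    have hyc : y ∈ centralizer ({KDone.K.z} : Set Gam) := mem_centralizer_singleton_iff.2 hzy.symm
    have hy' : orderOf (⟨y, hyc⟩ : centralizer ({KDone.K.z} : Set Gam)) = 23 := by rw [Subgroup.orderOf_mk, hy]
    have hpx : orderOf (BpSpor.MBigModel.pi ⟨y, hyc⟩) = 23 :=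
      MFive.orderOf_pi BpSpor.MBigModel.chart (by norm_num) (by decide) hy'
    have h3 := H451.Weak.M.card_inf_le (p := 23) (by norm_num) (by decide) hy'
    have h4 : fr (BpSpor.MBigModel.pi ⟨y, hyc⟩) * 2 *
        Nat.card ↥(centralizer ({BpSpor.MBigModel.pi ⟨y, hyc⟩} : Set Spor.Co1)) ≤ 2 ^ 2 * 2 * 23 :=
      Nat.mul_le_mul (Nat.mul_le_mul_right 2 (H451.Weak.MCo.fr_le hpx)) (H451.Weak.MCo.card_cent hpx)
    have h5 := h3.trans h4
    rw [inf_comm] at h1
    rw [show Nat.card ↥(centralizer ({KDone.K.z} : Set Gam) ⊓ centralizer ({y} : Set Gam)) = _ from h1] at h5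
    omega
  · apply congrArg (QuotientGroup.mk (s := Zx y))
    exact Subtype.ext haz
  · apply congrArg (QuotientGroup.mk (s := Zx y))
    exact Subtype.ext hbz
  · intro h
    have h1 : (a * b) * y = y * (a * b) := ((show Commute a y from hay).mul_left (show Commute b y from hby)).eq
    have h2 : (b * a) * y = y * (b * a) := ((show Commute b y from hby).mul_left (show Commute a y from hay)).eq
    have h3 : mk y h1 = mk y h2 := h
    obtain ⟨i, hi⟩ := (mk_eq_mk h1 h2).1 h3
    have h4 := (chart.large.comm a haQ b hbQ).resolve_left hab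
    rw [h4, mul_assoc] at hi
    have h5 : KDone.K.z * y ^ i = 1 := mul_eq_left.1 hi
    have h6 : y ^ i = KDone.K.z := by
      have h7 := eq_inv_of_mul_eq_one_right h5
      rw [h7]
      exact inv_eq_of_mul_eq_one_left chart.large.z_sq
    have h7 : KDone.K.z ^ 23 = 1 := by
      rw [← h6, ← zpow_natCast, ← zpow_mul, mul_comm, zpow_mul, zpow_natCast, ← hy, pow_orderOf_eq_one, one_zpow]
    have h8 := orderOf_dvd_of_pow_eq_one h7
    rw [z_order] at h8
    norm_num at h8

theorem base23 (h3 : SThree.{0}) {y : Gam} (hy : orderOf y = 23) (hzy : KDone.K.z * y = y * KDone.K.z) {t : Gam}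
    (ht : orderOf t = 2) (hty : t * y = y * t)
    (hct : Nat.card (centralizer ({t} : Set Gam)) = 2 * 4154781481226426191177580544000000) :
    Nat.card (centralizer ({y} : Set Gam)) = 24 * 23 ∧
      Nat.card ↥(centralizer ({y} : Set Gam) ⊓ centralizer ({t} : Set Gam)) = 4 * 23 := by
  have h23 : Nat.Prime 23 := by norm_num
  have hsq : ¬ 23 ^ 2 ∣ Nat.card Gam := by rw [card_G]; norm_num
  have O := oct23 hy hzy
  obtain ⟨v, hv, hvy⟩ := exists_three (r := 23) h23 (by norm_num) hsq fi23 hy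
  obtain ⟨k1, k2⟩ := hvy.quot Nat.prime_three h23 (by norm_num) hv hy
  have ht' := order_two h23 (by norm_num) hy ht hty
  have hne : ∀ k : XX y, k * mk y hzy * k⁻¹ ≠ mk y hty := by
    intro k hk
    obtain ⟨g, hg, rfl⟩ := exists_mk k
    have h4 : mk y (LThreeMB.conj_comm hg hzy) = mk y hty := hk
    have h5 := eq_of_mk (r := 23) (by decide) hy (s := g * KDone.K.z * g⁻¹) (s' := t) (by
      calc g * KDone.K.z * g⁻¹ * (g * KDone.K.z * g⁻¹) = g * (KDone.K.z * KDone.K.z) * g⁻¹ := by group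
        _ = 1 := by rw [chart.large.z_sq]; group) (mul_self_of ht) _ _ h4
    rw [← h5, card_conj', card_cz] at hct
    norm_num at hct
  have h24 := card_24 h3 O k1 k2 ht' hne
  refine ⟨by rw [card_XX hy, h24], ?_⟩
  rw [card_inf (by decide) hy (mul_self_of ht) hty, O.card_cent h24 k1 k2 ht' hne]

theorem main23 (h3 : SThree.{0}) {y : Gam} (hy : orderOf y = 23) {t : Gam}
    (ht : orderOf t = 2) (hty : t * y = y * t)
    (hct : Nat.card (centralizer ({t} : Set Gam)) = 2 * 4154781481226426191177580544000000) :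
    Nat.card (centralizer ({y} : Set Gam)) = 24 * 23 ∧
      Nat.card ↥(centralizer ({y} : Set Gam) ⊓ centralizer ({t} : Set Gam)) = 4 * 23 := by
  have h23 : Nat.Prime 23 := by norm_num
  have hF : Fact (Nat.Prime 23) := ⟨h23⟩
  have hsq : ¬ 23 ^ 2 ∣ Nat.card Gam := by rw [card_G]; norm_num
  obtain ⟨y1, hy1⟩ := exists_prime_orderOf_dvd_card' (G := centralizer ({KDone.K.z} : Set Gam)) 23
    (by rw [card_cz]; norm_num)
  have hy1' : orderOf (y1 : Gam) = 23 := by rw [Subgroup.orderOf_coe, hy1]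
  obtain ⟨g, ⟨i, hi⟩, -⟩ := H241.Mon.conj_of_not_sq h23 hsq hy1' hy
  have hi : (y1 : Gam) ^ i = g * y * g⁻¹ := hi
  have hzy : KDone.K.z * (g * y * g⁻¹) = (g * y * g⁻¹) * KDone.K.z := by
    have h1 : (y1 : Gam) * KDone.K.z = KDone.K.z * y1 := mem_centralizer_singleton_iff.1 y1.2
    rw [← hi]
    exact ((show Commute KDone.K.z (y1 : Gam) from h1.symm).zpow_right i).eq
  have h4 := base23 h3 (y := g * y * g⁻¹) (by rw [order_conj, hy]) hzy (t := g * t * g⁻¹) (by rw [order_conj, ht])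
    (by
      calc g * t * g⁻¹ * (g * y * g⁻¹) = g * (t * y) * g⁻¹ := by group
        _ = g * (y * t) * g⁻¹ := by rw [hty]
        _ = _ := by group) (by rw [card_conj', hct])
  rwa [card_conj', card_inf_conj] at h4

/-- **Elements of order 23.** -/
theorem card23 (h3 : SThree.{0}) {y : Gam} (hy : orderOf y = 23) :
    Nat.card (centralizer ({y} : Set Gam)) = 24 * 23 := by
  obtain ⟨t, ht, hty, hct⟩ := exists_t (r := 23) (by norm_num) (by rw [card_G]; norm_num) (by norm_num) hy
  exact (main23 h3 hy ht hty hct).1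

/-! ### The Monster -/

section M

variable {S : Type u} [Group S]

/-- transport from the model -/
theorem transport (h : Spor.IsoM S) {r n : ℕ} (hm : ∀ y : Gam, orderOf y = r → Nat.card (centralizer ({y} : Set Gam)) = n)
    {x : S} (hx : orderOf x = r) : Nat.card (centralizer ({x} : Set S)) = n := by
  obtain ⟨f⟩ := h
  obtain ⟨g⟩ := MonsterP.Equiv.equiv
  rw [LThreeB.card_centralizer_congr (f.trans g) x]
  exact hm _ (by rw [MulEquiv.orderOf_eq, hx])

theorem M.cent17 (h3 : SThree.{0}) (h : Spor.IsoM S) {x : S} (hx : orderOf x = 17) :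
    Nat.card (centralizer ({x} : Set S)) = 168 * 17 := transport h (fun _ hy => card17 h3 hy) hx

theorem M.cent19 (h3 : SThree.{0}) (h : Spor.IsoM S) {x : S} (hx : orderOf x = 19) :
    Nat.card (centralizer ({x} : Set S)) = 60 * 19 := transport h (fun _ hy => card19' h3 hy) hx

theorem M.cent23 (h3 : SThree.{0}) (h : Spor.IsoM S) {x : S} (hx : orderOf x = 23) :
    Nat.card (centralizer ({x} : Set S)) = 24 * 23 := transport h (fun _ hy => card23 h3 hy) hx

theorem M.cent31 (h3 : SThree.{0}) (h : Spor.IsoM S) {x : S} (hx : orderOf x = 31) :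
    Nat.card (centralizer ({x} : Set S)) = 6 * 31 := transport h (fun _ hy => card31 h3 hy) hx

end M

/-! ### The Baby Monster -/

section B

open Cfsg.Agent.H979.CovLift

variable {L : Type u} [Group L] [Finite L]

omit [Finite L] in
/-- **centralizers in `B` and in `M`** -/
theorem exists_inf (h : Spor.IsoB L) {p : ℕ} (hp : p.Prime) (hp2 : p ≠ 2) {y : L} (hy : orderOf y = p) :
    ∃ x t : Gam, orderOf x = p ∧ orderOf t = 2 ∧ t * x = x * t ∧
      Nat.card (centralizer ({t} : Set Gam)) = 2 * 4154781481226426191177580544000000 ∧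
      Nat.card ↥(centralizer ({x} : Set Gam) ⊓ centralizer ({t} : Set Gam)) =
        Nat.card ↥(centralizer ({y} : Set L)) * 2 := by
  obtain ⟨t, ht, h2, ⟨e⟩⟩ := H979.OddB.exists_cover h
  obtain ⟨x, hx, hx'⟩ := exists_lift h2 hp hp2 (x := e.symm y) (by rw [MulEquiv.orderOf_eq, hy])
  have h1 := Cfsg.Agent.H180.TH.Baby.card_quot h2 e (x := x) (n := p) (hp.odd_of_ne_two hp2)
    (by rw [← hx, pow_orderOf_eq_one])
  rw [hx', e.apply_symm_apply] at h1
  have hct : Nat.card (centralizer ({t} : Set Gam)) = 2 * 4154781481226426191177580544000000 := by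
    have h3 := (center ↥(centralizer ({t} : Set Gam))).card_eq_card_quotient_mul_card_subgroup
    rw [h2, Nat.card_congr e.toEquiv, NotCT.Orders.b h] at h3
    rw [h3]
  refine ⟨x, t, by rw [Subgroup.orderOf_coe, hx], ?_, (mem_centralizer_singleton_iff.1 x.2).symm, hct, h1⟩
  -- the order of `t`
  have hcen : (⟨t, mem_centralizer_singleton_iff.2 rfl⟩ : centralizer ({t} : Set Gam)) ∈
      center ↥(centralizer ({t} : Set Gam)) := by
    rw [mem_center_iff]
    intro g
    exact Subtype.ext (mem_centralizer_singleton_iff.1 g.2)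
  have h4 : orderOf t ∣ 2 := by
    rw [← h2, ← Subgroup.orderOf_mk t (mem_centralizer_singleton_iff.2 rfl), ← Subgroup.orderOf_mk _ hcen]
    exact orderOf_dvd_natCard _
  rcases (Nat.dvd_prime Nat.prime_two).1 h4 with h5 | h5
  · exfalso
    rw [orderOf_eq_one_iff] at h5
    rw [h5] at hct
    have h6 : centralizer ({(1 : Gam)} : Set Gam) = ⊤ := by
      rw [eq_top_iff]
      intro g _
      exact mem_centralizer_singleton_iff.2 (by rw [mul_one, one_mul])
    rw [h6, Subgroup.card_top, card_G] at hct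
    norm_num at hct
  · exact h5

omit [Finite L] in
/-- **`|C_B(x)| = 38`** -/
theorem B.cent19 (h3 : SThree.{0}) (h : Spor.IsoB L) {x : L} (hx : orderOf x = 19) :
    Nat.card (centralizer ({x} : Set L)) = 38 := by
  obtain ⟨y, t, hy, ht, hty, -, hc⟩ := exists_inf h (p := 19) (by norm_num) (by norm_num) hx
  rw [inf19 h3 hy ht hty] at hc
  omega

omit [Finite L] in
/-- **`|C_B(x)| = 46`** -/
theorem B.cent23 (h3 : SThree.{0}) (h : Spor.IsoB L) {x : L} (hx : orderOf x = 23) :
    Nat.card (centralizer ({x} : Set L)) = 46 := by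
  obtain ⟨y, t, hy, ht, hty, hct, hc⟩ := exists_inf h (p := 23) (by norm_num) (by norm_num) hx
  rw [(main23 h3 hy ht hty hct).2] at hc
  omega

/-- **`|C_B(x)| = 31`** -/
theorem B.cent31 (h3 : SThree.{0}) (h : Spor.IsoB L) {x : L} (hx : orderOf x = 31) :
    Nat.card (centralizer ({x} : Set L)) = 31 := by
  obtain ⟨y, hy, hc⟩ := RowB.exists_cent h (p := 31) (by norm_num) (by norm_num) hx
  rw [card31 h3 hy] at hc
  have h1 : Nat.card (centralizer ({x} : Set L)) ∣ 93 := by
    have : Nat.card (centralizer ({x} : Set L)) * 2 ∣ 93 * 2 := hc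
    exact Nat.dvd_of_mul_dvd_mul_right (by norm_num) this
  have h2 : 31 ∣ Nat.card (centralizer ({x} : Set L)) := by
    rw [← hx, ← Subgroup.orderOf_mk x (mem_centralizer_singleton_iff.2 rfl)]
    exact orderOf_dvd_natCard _
  have h4 : ¬ 3 ∣ Nat.card (centralizer ({x} : Set L)) := by
    intro h4
    have hF : Fact (Nat.Prime 3) := ⟨Nat.prime_three⟩
    obtain ⟨u, hu⟩ := exists_prime_orderOf_dvd_card' 3 h4
    exact H979.OddB.nadj3 h (q := 31) (by simp) (x := (u : L)) (y := x) (by rw [Subgroup.orderOf_coe, hu]) hx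
      (mem_centralizer_singleton_iff.1 u.2)
  obtain ⟨k, hk⟩ := h2
  rw [hk] at h1 h4 ⊢
  have h5 : k ∣ 3 := by
    have : 31 * k ∣ 31 * 3 := h1
    exact Nat.dvd_of_mul_dvd_mul_left (by norm_num) this
  rcases (Nat.dvd_prime Nat.prime_three).1 h5 with rfl | rfl
  · rfl
  · exact absurd (Dvd.intro_left 31 rfl) h4

end B

end Cfsg.Agent.H715.Mon.Exact
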