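import Cfsg.Agent.H715.Mon.RowB
import Cfsg.Agent.H436.MonLoc

/-!
# The row `p = 47` of the sharp table of fixed point ratios for the Baby Monster (helper715)
-/

set_option autoImplicit false

namespace Cfsg.Agent.H715.Mon.RowB

open Cfsg
open Cfsg.Agent.H409 (FprRow)
open Cfsg.Agent.H940.Eng (Base)
open Cfsg.Agent.H241.Mon (Gam)

universe u

/-- **`FprRow 48 1 47` for the Baby Monster** -/
theorem rowIso_47 (B : Base) {S : Type u} [Group S] (h : Spor.IsoB S) : FprRow 48 1 47 S := by
  have : Finite S := Nat.finite_of_card_ne_zero (by rw [NotCT.Orders.b h]; norm_num)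
  exact row_of h (c := 2) (by norm_num) (by norm_num) (by norm_num) (by norm_num)
    (fun y hy => (H436.MonLoc.card47 B.known hy).le.trans (by norm_num)) (by norm_num)

/-- **`FprRow (p + 1) 1 p` for the Baby Monster, `p = 17, 19, 31, 47`** -/
theorem rowIso_all (B : Base) {S : Type u} [Group S] (h : Spor.IsoB S) {p : ℕ}
    (hp : p = 17 ∨ p = 19 ∨ p = 31 ∨ p = 47) : FprRow (p + 1) 1 p S := by
  rcases hp with rfl | rfl | rfl | rfl
  · exact rowIso B h (Or.inl rfl)
  · exact rowIso B h (Or.inr (Or.inl rfl))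
  · exact rowIso B h (Or.inr (Or.inr rfl))
  · exact rowIso_47 B h

end Cfsg.Agent.H715.Mon.RowB
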