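import Cfsg.Agent.H715.Mon.Exact

/-!
# Normalizers of subgroups of prime order of the Monster and the Baby Monster (helper715)

* `relIndex_eq` : `|N(P) : C(P)|` from `|C(P)|` and the congruence of Sylow;
* `isConj_of` : `|N(P) : C(P)| = p - 1`: the elements of order `p` are conjugate;
* `iso17` : `C(y)/⟨y⟩ ≅ PSL(2,7)`; `ne31` : `C(y)/⟨y⟩` is not abelian;
* `M.norm17`, ..., `B.norm31`.
-/

set_option autoImplicit false
set_option maxRecDepth 100000
open Subgroup

namespace Cfsg.Agent.H715.Mon.Norm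

open Cfsg Cfsg.Agent.H241.NH Cfsg.Agent.H241.Mon Cfsg.Agent.H630.NH
open Cfsg.Agent.MonsterX Cfsg.Agent.MonsterX.InstData Cfsg.Agent.MonsterX.MainPack
open Cfsg.Agent.LThreeMB (XX mk exists_mk mk_eq_one mk_eq_mk Zx self)
open Cfsg.Agent.H715.Mon.Cent Cfsg.Agent.H715.Mon.Grp Cfsg.Agent.H715.Mon.Exact

universe u

section gen

variable {G : Type u} [Group G] [Finite G] {p c e : ℕ}

theorem cent_eq (hp : p.Prime) {P : Subgroup G} (hP : Nat.card P = p) :
    ∃ x : G, orderOf x = p ∧ P = zpowers x ∧ centralizer (P : Set G) = centralizer ({x} : Set G) := by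
  have hF : Fact p.Prime := ⟨hp⟩
  obtain ⟨x, hx⟩ := exists_prime_orderOf_dvd_card' (G := P) p (by rw [hP])
  have hx' : orderOf (x : G) = p := by rw [Subgroup.orderOf_coe, hx]
  have hPx : P = zpowers (x : G) := by
    symm
    refine Subgroup.eq_of_le_of_card_ge (by rw [zpowers_le]; exact x.2) ?_
    rw [hP, Nat.card_zpowers, hx']
  refine ⟨x, hx', hPx, ?_⟩
  conv_lhs => rw [hPx]
  exact H715.Fpr.cent_zpowers' (x : G)

/-- **The index of the centralizer in the normalizer from the congruence of Sylow.** -/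
theorem relIndex_eq (hp : p.Prime) (hp2 : ¬ p ^ 2 ∣ Nat.card G)
    (hc : ∀ x : G, orderOf x = p → Nat.card (centralizer ({x} : Set G)) = c) (he : e < p)
    (hmod : Nat.card G / c % p = e) {P : Subgroup G} (hP : Nat.card P = p) :
    (centralizer (P : Set G)).relIndex (normalizer (P : Set G)) = e ∧
      Nat.card (normalizer (P : Set G)) = c * e := by
  have hF : Fact p.Prime := ⟨hp⟩
  obtain ⟨x, hx, -, hCx⟩ := cent_eq hp hP
  obtain ⟨k, hk, hN⟩ := H904.SylOne.card_nc hP
  have hC : Nat.card (centralizer (P : Set G)) = c := by rw [hCx, hc x hx]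
  rw [hC] at hN
  have hc0 : 0 < c := by rw [← hC]; exact Nat.card_pos
  have hPp : IsPGroup p P := IsPGroup.of_card (n := 1) (by rw [hP, pow_one])
  obtain ⟨Q, hQ⟩ := hPp.exists_le_sylow
  have hQP : (Q : Subgroup G) = P := by
    symm
    refine Subgroup.eq_of_le_of_card_ge hQ ?_
    rw [hP]
    obtain ⟨n, hn⟩ := IsPGroup.iff_card.1 Q.2
    have h1 : Nat.card (Q : Subgroup G) = p ^ n := hn
    rw [h1]
    have h2 : n < 2 := by
      by_contra h2
      exact hp2 ((pow_dvd_pow p (not_lt.1 h2)).trans (by rw [← h1]; exact card_subgroup_dvd_card _))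
    calc p ^ n ≤ p ^ 1 := Nat.pow_le_pow_right hp.pos (by omega)
      _ = p := pow_one p
  have h3 := card_sylow_modEq_one p G
  rw [Q.card_eq_index_normalizer] at h3
  have h3 : (normalizer ((Q : Subgroup G) : Set G)).index ≡ 1 [MOD p] := h3
  rw [hQP] at h3
  have h4 := (normalizer (P : Set G)).card_mul_index
  rw [hN] at h4
  have h5 : Nat.card G / c = k * (normalizer (P : Set G)).index := by
    rw [← h4, mul_assoc, Nat.mul_div_cancel_left _ hc0]
  have hkp : k < p := by
    have := Nat.le_of_dvd (by have := hp.two_le; omega) hk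
    have := hp.two_le
    omega
  have h6 : k = e := by
    rw [← hmod, h5]
    have h7 : k * (normalizer (P : Set G)).index ≡ k * 1 [MOD p] := Nat.ModEq.mul_left k h3
    rw [mul_one] at h7
    have h8 : k * (normalizer (P : Set G)).index % p = k % p := h7
    rw [h8, Nat.mod_eq_of_lt hkp]
  subst h6
  refine ⟨?_, hN⟩
  have h7 : (centralizer (P : Set G)) ≤ normalizer (P : Set G) := centralizer_le_normalizer _
  have h8 := relIndex_mul_index h7
  have h9 := (centralizer (P : Set G)).card_mul_index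
  rw [hC, ← h8, ← h4] at h9
  have h10 : (normalizer (P : Set G)).index ≠ 0 := index_ne_zero_of_finite
  have h11 : c * ((centralizer (P : Set G)).relIndex (normalizer (P : Set G)) * (normalizer (P : Set G)).index) =
      c * (k * (normalizer (P : Set G)).index) := by rw [h9]; ring
  exact Nat.eq_of_mul_eq_mul_right (Nat.pos_of_ne_zero h10) (Nat.eq_of_mul_eq_mul_left hc0 h11)

/-- transitivity of the normalizer -/
theorem exists_norm (hp : p.Prime) {x g : G} (hx : orderOf x = p) (hg : g ∈ zpowers x) (hg1 : g ≠ 1)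
    (h : (centralizer ((zpowers x : Subgroup G) : Set G)).relIndex (normalizer ((zpowers x : Subgroup G) : Set G)) = p - 1) :
    ∃ n : G, n * x * n⁻¹ = g := by
  let N : Subgroup G := normalizer ((zpowers x : Subgroup G) : Set G)
  let C : Subgroup N := (centralizer ((zpowers x : Subgroup G) : Set G)).subgroupOf N
  have hmem : ∀ n : N, (n : G) * x * (n : G)⁻¹ ∈ zpowers x := fun n =>
    (mem_normalizer_iff.1 n.2 x).1 (mem_zpowers x)
  have hx1 : x ≠ 1 := by
    rintro rfl
    rw [orderOf_one] at hx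
    exact hp.one_lt.ne hx
  have hne : ∀ n : N, (n : G) * x * (n : G)⁻¹ ≠ 1 := by
    intro n hn
    apply hx1
    calc x = (n : G)⁻¹ * ((n : G) * x * (n : G)⁻¹) * n := by group
      _ = 1 := by rw [hn]; group
  have hCx : centralizer ((zpowers x : Subgroup G) : Set G) = centralizer ({x} : Set G) := H715.Fpr.cent_zpowers' x
  let T : Set G := (zpowers x : Set G) \ {1}
  let φ : N ⧸ C → T := Quotient.lift (fun n : N => (⟨(n : G) * x * (n : G)⁻¹, hmem n, hne n⟩ : T)) (by
    intro a b hab
    have h1 : a⁻¹ * b ∈ C := QuotientGroup.leftRel_apply.1 hab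
    have h2 : ((a⁻¹ * b : N) : G) ∈ centralizer ((zpowers x : Subgroup G) : Set G) := h1
    rw [hCx, mem_centralizer_singleton_iff] at h2
    apply Subtype.ext
    show (a : G) * x * (a : G)⁻¹ = (b : G) * x * (b : G)⁻¹
    have h3 : ((a⁻¹ * b : N) : G) = (a : G)⁻¹ * b := rfl
    rw [h3] at h2
    calc (a : G) * x * (a : G)⁻¹ = a * (x * ((a : G)⁻¹ * b)) * (b : G)⁻¹ := by group
      _ = a * ((a : G)⁻¹ * b * x) * (b : G)⁻¹ := by rw [h2]
      _ = (b : G) * x * (b : G)⁻¹ := by group)
  have hφ : Function.Injective φ := by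
    intro a b
    refine Quotient.inductionOn₂ a b fun a b hab => ?_
    apply Quotient.sound
    show QuotientGroup.leftRel C a b
    rw [QuotientGroup.leftRel_apply]
    show ((a⁻¹ * b : N) : G) ∈ centralizer ((zpowers x : Subgroup G) : Set G)
    rw [hCx, mem_centralizer_singleton_iff]
    have h1 : (a : G) * x * (a : G)⁻¹ = (b : G) * x * (b : G)⁻¹ := congrArg Subtype.val hab
    show ((a : G)⁻¹ * b) * x = x * ((a : G)⁻¹ * b)
    calc ((a : G)⁻¹ * b) * x = (a : G)⁻¹ * ((b : G) * x * (b : G)⁻¹) * b := by group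
      _ = (a : G)⁻¹ * ((a : G) * x * (a : G)⁻¹) * b := by rw [h1]
      _ = x * ((a : G)⁻¹ * b) := by group
  have hT : Nat.card T = p - 1 := by
    rw [Nat.card_coe_set_eq, Set.ncard_sdiff_singleton_of_mem (one_mem (zpowers x))]
    have h1 : (zpowers x : Set G).ncard = p := by
      rw [← Nat.card_coe_set_eq]
      exact (Nat.card_zpowers x).trans hx
    rw [h1]
  have hQ : Nat.card (N ⧸ C) = p - 1 := h
  obtain ⟨-, hs⟩ := hφ.bijective_of_nat_card_le (by rw [hT, hQ])
  obtain ⟨q, hq⟩ := hs ⟨g, hg, hg1⟩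
  obtain ⟨n, rfl⟩ := Quotient.exists_rep q
  exact ⟨n, congrArg Subtype.val hq⟩

/-- **The elements of order `p` are conjugate.** -/
theorem isConj_of (hp : p.Prime) (hp2 : ¬ p ^ 2 ∣ Nat.card G)
    (h : ∀ P : Subgroup G, Nat.card P = p → (centralizer (P : Set G)).relIndex (normalizer (P : Set G)) = p - 1)
    {x y : G} (hx : orderOf x = p) (hy : orderOf y = p) : IsConj x y := by
  obtain ⟨g, hg, -⟩ := H715.Mon.Grp.conj_of_not_sq hp hp2 hx hy
  have hy1 : g * y * g⁻¹ ≠ 1 := by
    intro h1
    have h2 : y = 1 := by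
      calc y = g⁻¹ * (g * y * g⁻¹) * g := by group
        _ = 1 := by rw [h1]; group
    rw [h2, orderOf_one] at hy
    exact hp.one_lt.ne hy
  obtain ⟨n, hn⟩ := exists_norm hp hx hg hy1 (h _ (by rw [Nat.card_zpowers, hx]))
  refine isConj_iff.2 ⟨g⁻¹ * n, ?_⟩
  calc g⁻¹ * n * x * (g⁻¹ * n)⁻¹ = g⁻¹ * (n * x * n⁻¹) * g := by group
    _ = y := by rw [hn]; group

end gen

/-- **`C(y)/⟨y⟩ ≅ PSL(2,7)`** -/
theorem iso17 (h3 : SThree.{0}) {y : Gam} (hy : orderOf y = 17) :
    Nonempty (XX y ≃* Matrix.ProjectiveSpecialLinearGroup (Fin 2) (ZMod 7)) := by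
  have h17 : Nat.Prime 17 := by norm_num
  have hsq : ¬ 17 ^ 2 ∣ Nat.card Gam := by rw [card_G]; norm_num
  obtain ⟨v, hv, hvy⟩ := exists_three (r := 17) h17 (by norm_num) hsq fi17 hy
  obtain ⟨w, hw, hwy⟩ := exists_seven hy
  obtain ⟨k1, k2⟩ := hvy.quot Nat.prime_three h17 (by norm_num) hv hy
  obtain ⟨k3, k4⟩ := hwy.quot (by norm_num) h17 (by norm_num) hw hy
  have hc : Nat.card (XX y) = 168 := by
    have h1 := card17 h3 hy
    rw [card_XX hy] at h1
    exact Nat.eq_of_mul_eq_mul_right (by norm_num) h1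
  have hT : Nat.card (zpowers (mk y hvy.1)) = 3 := by rw [Nat.card_zpowers, k1]
  rcases h3 (XX y) (zpowers (mk y hvy.1)) hT (centralizer_eq k2) with ⟨N, hN, hnil, hcop, h36⟩ | ⟨N, hN, -, hsq, ⟨e⟩⟩ | h
  · exfalso
    have hd6 : N.index ∣ 6 := by
      show Nat.card (XX y ⧸ N) ∣ 6
      rcases h36 with h | ⟨⟨e⟩⟩
      · rw [h]; norm_num
      · rw [Nat.card_congr e.toEquiv, Nat.card_eq_fintype_card, Fintype.card_perm, Fintype.card_fin]
        decide
    have hwN : mk y hwy.1 ∈ N := by
      rw [← QuotientGroup.eq_one_iff]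
      refine eq_one_of (m := 7) (n := 6) (by norm_num) ?_ ?_
      · rw [← k3]; exact orderOf_map_dvd (QuotientGroup.mk' N) _
      · exact (_root_.orderOf_dvd_natCard _).trans hd6
    have h7 := card_dvd_of_nilpotent hnil (by norm_num : Nat.Prime 7) k3 k4 hwN
    have h8 := N.card_mul_index
    rw [hc] at h8
    have h9 : Nat.card N * N.index ∣ 7 * 6 := Nat.mul_dvd_mul h7 hd6
    rw [h8] at h9
    norm_num at h9
  · exfalso
    have h60 : N.index = 60 := by
      show Nat.card (XX y ⧸ N) = 60
      rw [Nat.card_congr e.toEquiv, card_alt_five]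
    have h8 := N.card_mul_index
    rw [hc, h60] at h8
    omega
  · exact h

/-- `C(y)/⟨y⟩` is not abelian -/
theorem ne31 (h3 : SThree.{0}) {y : Gam} (hy : orderOf y = 31) :
    Nat.card (XX y) = 6 ∧ ∃ a b : XX y, a * b ≠ b * a := by
  have h31 : Nat.Prime 31 := by norm_num
  have hsq : ¬ 31 ^ 2 ∣ Nat.card Gam := by rw [card_G]; norm_num
  have hF : Fact (Nat.Prime 31) := ⟨h31⟩
  have : Finite Spor.Th := Nat.finite_of_card_ne_zero (by rw [S1700.result.2]; norm_num)
  obtain ⟨v, hv, hvy⟩ := exists_three' h31 (by norm_num) hsq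
    (self_of_card h31 (by rw [S1700.result.2]; norm_num) fun y hy => H491.PB.Th.card_thirtyone hy) hy
  obtain ⟨k1, k2⟩ := hvy.quot Nat.prime_three h31 (by norm_num) hv hy
  have hc : Nat.card (XX y) = 6 := by
    have h1 := card31 h3 hy
    rw [card_XX hy] at h1
    exact Nat.eq_of_mul_eq_mul_right (by norm_num) h1
  refine ⟨hc, ?_⟩
  by_contra hno
  push Not at hno
  have h1 : zpowers (mk y hvy.1) = ⊤ := by
    rw [eq_top_iff]
    intro g _
    exact k2 g (hno _ _)
  have h2 : Nat.card (zpowers (mk y hvy.1)) = 3 := by rw [Nat.card_zpowers, k1]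
  rw [h1, Subgroup.card_top, hc] at h2
  norm_num at h2

/-! ### The Monster -/

section M

variable {S : Type u} [Group S]

theorem finM (h : Spor.IsoM S) : Finite S := by
  have := Cfsg.Agent.H444.FprM.finite
  obtain ⟨f⟩ := h
  obtain ⟨g⟩ := MonsterP.Equiv.equiv
  exact Finite.of_equiv _ (f.trans g).symm.toEquiv

theorem cardM (h : Spor.IsoM S) : Nat.card S = 808017424794512875886459904961710757005754368000000000 := by
  obtain ⟨f⟩ := h
  obtain ⟨g⟩ := MonsterP.Equiv.equiv
  rw [Nat.card_congr (f.trans g).toEquiv]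
  exact Cfsg.Agent.H444.FprM.card_M

/-- **`|N(P) : C(P)|` in the Monster** -/
theorem M.relIndex (h : Spor.IsoM S) {p c e : ℕ} (hp : p.Prime)
    (hp2 : ¬ p ^ 2 ∣ 808017424794512875886459904961710757005754368000000000)
    (hc : ∀ x : S, orderOf x = p → Nat.card (centralizer ({x} : Set S)) = c) (he : e < p)
    (hmod : 808017424794512875886459904961710757005754368000000000 / c % p = e) {P : Subgroup S} (hP : Nat.card P = p) :
    (centralizer (P : Set S)).relIndex (normalizer (P : Set S)) = e ∧ Nat.card (normalizer (P : Set S)) = c * e := by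
  have := finM h
  exact relIndex_eq hp (by rw [cardM h]; exact hp2) hc he (by rw [cardM h]; exact hmod) hP

theorem M.norm17 (h3 : SThree.{0}) (h : Spor.IsoM S) {P : Subgroup S} (hP : Nat.card P = 17) :
    (centralizer (P : Set S)).relIndex (normalizer (P : Set S)) = 16 ∧
      Nat.card (normalizer (P : Set S)) = 168 * 17 * 16 :=
  M.relIndex h (by norm_num) (by norm_num) (fun _ hx => M.cent17 h3 h hx) (by norm_num) (by norm_num) hP

theorem M.norm19 (h3 : SThree.{0}) (h : Spor.IsoM S) {P : Subgroup S} (hP : Nat.card P = 19) :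
    (centralizer (P : Set S)).relIndex (normalizer (P : Set S)) = 18 ∧
      Nat.card (normalizer (P : Set S)) = 60 * 19 * 18 :=
  M.relIndex h (by norm_num) (by norm_num) (fun _ hx => M.cent19 h3 h hx) (by norm_num) (by norm_num) hP

theorem M.norm23 (h3 : SThree.{0}) (h : Spor.IsoM S) {P : Subgroup S} (hP : Nat.card P = 23) :
    (centralizer (P : Set S)).relIndex (normalizer (P : Set S)) = 11 ∧
      Nat.card (normalizer (P : Set S)) = 24 * 23 * 11 :=
  M.relIndex h (by norm_num) (by norm_num) (fun _ hx => M.cent23 h3 h hx) (by norm_num) (by norm_num) hP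

theorem M.norm31 (h3 : SThree.{0}) (h : Spor.IsoM S) {P : Subgroup S} (hP : Nat.card P = 31) :
    (centralizer (P : Set S)).relIndex (normalizer (P : Set S)) = 15 ∧
      Nat.card (normalizer (P : Set S)) = 6 * 31 * 15 :=
  M.relIndex h (by norm_num) (by norm_num) (fun _ hx => M.cent31 h3 h hx) (by norm_num) (by norm_num) hP

/-- **the elements of order 17 (19) are conjugate** -/
theorem M.conj17 (h3 : SThree.{0}) (h : Spor.IsoM S) {x y : S} (hx : orderOf x = 17) (hy : orderOf y = 17) :
    IsConj x y := by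
  have := finM h
  exact isConj_of (by norm_num) (by rw [cardM h]; norm_num) (fun P hP => (M.norm17 h3 h hP).1) hx hy

theorem M.conj19 (h3 : SThree.{0}) (h : Spor.IsoM S) {x y : S} (hx : orderOf x = 19) (hy : orderOf y = 19) :
    IsConj x y := by
  have := finM h
  exact isConj_of (by norm_num) (by rw [cardM h]; norm_num) (fun P hP => (M.norm19 h3 h hP).1) hx hy

end M

/-! ### The Baby Monster -/

section B

variable {L : Type u} [Group L]

/-- **`|N(P) : C(P)|` in the Baby Monster** -/
theorem B.relIndex (h : Spor.IsoB L) {p c e : ℕ} (hp : p.Prime) (hp2 : ¬ p ^ 2 ∣ 4154781481226426191177580544000000)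
    (hc : ∀ x : L, orderOf x = p → Nat.card (centralizer ({x} : Set L)) = c) (he : e < p)
    (hmod : 4154781481226426191177580544000000 / c % p = e) {P : Subgroup L} (hP : Nat.card P = p) :
    (centralizer (P : Set L)).relIndex (normalizer (P : Set L)) = e ∧ Nat.card (normalizer (P : Set L)) = c * e := by
  have : Finite L := Nat.finite_of_card_ne_zero (by rw [NotCT.Orders.b h]; norm_num)
  exact relIndex_eq hp (by rw [NotCT.Orders.b h]; exact hp2) hc he (by rw [NotCT.Orders.b h]; exact hmod) hP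

theorem B.norm19 (h3 : SThree.{0}) (h : Spor.IsoB L) {P : Subgroup L} (hP : Nat.card P = 19) :
    (centralizer (P : Set L)).relIndex (normalizer (P : Set L)) = 18 ∧
      Nat.card (normalizer (P : Set L)) = 38 * 18 :=
  B.relIndex h (by norm_num) (by norm_num) (fun _ hx => B.cent19 h3 h hx) (by norm_num) (by norm_num) hP

theorem B.norm23 (h3 : SThree.{0}) (h : Spor.IsoB L) {P : Subgroup L} (hP : Nat.card P = 23) :
    (centralizer (P : Set L)).relIndex (normalizer (P : Set L)) = 11 ∧
      Nat.card (normalizer (P : Set L)) = 46 * 11 :=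
  B.relIndex h (by norm_num) (by norm_num) (fun _ hx => B.cent23 h3 h hx) (by norm_num) (by norm_num) hP

theorem B.norm31 (h3 : SThree.{0}) (h : Spor.IsoB L) {P : Subgroup L} (hP : Nat.card P = 31) :
    (centralizer (P : Set L)).relIndex (normalizer (P : Set L)) = 15 ∧
      Nat.card (normalizer (P : Set L)) = 31 * 15 := by
  have : Finite L := Nat.finite_of_card_ne_zero (by rw [NotCT.Orders.b h]; norm_num)
  exact B.relIndex h (by norm_num) (by norm_num) (fun _ hx => B.cent31 h3 h hx) (by norm_num) (by norm_num) hP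

/-- **the elements of order 19 are conjugate** -/
theorem B.conj19 (h3 : SThree.{0}) (h : Spor.IsoB L) {x y : L} (hx : orderOf x = 19) (hy : orderOf y = 19) :
    IsConj x y := by
  have : Finite L := Nat.finite_of_card_ne_zero (by rw [NotCT.Orders.b h]; norm_num)
  exact isConj_of (by norm_num) (by rw [NotCT.Orders.b h]; norm_num) (fun P hP => (B.norm19 h3 h hP).1) hx hy

end B

end Cfsg.Agent.H715.Mon.Norm
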