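import Cfsg.Agent.H715.Mon.Norm

/-!
# `|C(y) ∩ C(t)|` for elements of order 31 of the Monster (helper715)

* `inf31` : `|C(y) ∩ C(t)| = 62`, `y` of order 31, `t` an involution commuting with `y`;
-/

set_option autoImplicit false
set_option maxRecDepth 100000
open Subgroup

namespace Cfsg.Agent.H715.Mon.Inf

open Cfsg Cfsg.Agent.H241.NH Cfsg.Agent.H241.Mon Cfsg.Agent.H630.NH
open Cfsg.Agent.MonsterX Cfsg.Agent.MonsterX.InstData Cfsg.Agent.MonsterX.MainPack
open Cfsg.Agent.LThreeMB (XX mk exists_mk mk_eq_one mk_eq_mk Zx self)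
open Cfsg.Agent.H715.Mon.Cent Cfsg.Agent.H715.Mon.Grp Cfsg.Agent.H715.Mon.Exact Cfsg.Agent.H715.Mon.Norm

universe u

/-- the centralizer of an involution in a group of order 6 with a self-centralizing element of order 3 -/
theorem card_two {K : Type u} [Group K] [Finite K] (h6 : Nat.card K = 6) {v a : K} (hv : orderOf v = 3)
    (hC : ∀ g : K, g * v = v * g → g ∈ zpowers v) (ha : orderOf a = 2) :
    Nat.card (centralizer ({a} : Set K)) = 2 := by
  have hF : Fact (Nat.Prime 3) := ⟨Nat.prime_three⟩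
  have h1 : Nat.card (centralizer ({a} : Set K)) ∣ 6 := by rw [← h6]; exact card_subgroup_dvd_card _
  have h2 : 2 ∣ Nat.card (centralizer ({a} : Set K)) := by
    rw [← ha, ← Subgroup.orderOf_mk a (mem_centralizer_singleton_iff.2 rfl)]
    exact orderOf_dvd_natCard _
  have h3 : ¬ 3 ∣ Nat.card (centralizer ({a} : Set K)) := by
    intro h3
    obtain ⟨u, hu⟩ := exists_prime_orderOf_dvd_card' 3 h3
    have hu' : orderOf (u : K) = 3 := by rw [Subgroup.orderOf_coe, hu]
    obtain ⟨g, -, i, hi⟩ := H715.Mon.Grp.conj_of_not_sq Nat.prime_three (by rw [h6]; norm_num) hv hu'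
    have hi : (g * (u : K) * g⁻¹) ^ i = v := hi
    have h5 : (u : K) * a = a * u := mem_centralizer_singleton_iff.1 u.2
    have h6 : Commute (g * a * g⁻¹) (g * (u : K) * g⁻¹) := by
      show g * a * g⁻¹ * (g * (u : K) * g⁻¹) = g * (u : K) * g⁻¹ * (g * a * g⁻¹)
      calc g * a * g⁻¹ * (g * (u : K) * g⁻¹) = g * (a * u) * g⁻¹ := by group
        _ = g * (u * a) * g⁻¹ := by rw [h5]
        _ = _ := by group
    have h7 : (g * a * g⁻¹) * v = v * (g * a * g⁻¹) := by rw [← hi]; exact (h6.zpow_right i).eq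
    have h8 := order_of_mem_zpowers (hC _ h7)
    rw [orderOf_conj' g ha, hv] at h8
    norm_num at h8
  have h4 : Nat.card (centralizer ({a} : Set K)) ≤ 6 := Nat.le_of_dvd (by norm_num) h1
  generalize Nat.card (centralizer ({a} : Set K)) = m at *
  interval_cases m <;> omega

/-- **`|C(y) ∩ C(t)| = 62`** -/
theorem inf31 (h3 : SThree.{0}) {y : Gam} (hy : orderOf y = 31) {t : Gam} (ht : orderOf t = 2) (h : t * y = y * t) :
    Nat.card ↥(centralizer ({y} : Set Gam) ⊓ centralizer ({t} : Set Gam)) = 2 * 31 := by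
  have h31 : Nat.Prime 31 := by norm_num
  have hsq : ¬ 31 ^ 2 ∣ Nat.card Gam := by rw [card_G]; norm_num
  have : Finite Spor.Th := Nat.finite_of_card_ne_zero (by rw [S1700.result.2]; norm_num)
  obtain ⟨v, hv, hvy⟩ := exists_three' h31 (by norm_num) hsq
    (self_of_card h31 (by rw [S1700.result.2]; norm_num) fun y hy => H491.PB.Th.card_thirtyone hy) hy
  obtain ⟨k1, k2⟩ := hvy.quot Nat.prime_three h31 (by norm_num) hv hy
  rw [card_inf (by decide) hy (mul_self_of ht) h, card_two (ne31 h3 hy).1 k1 k2]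
  exact order_two h31 (by norm_num) hy ht h

end Cfsg.Agent.H715.Mon.Inf
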