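import Cfsg.Agent.H715.Mon.Cent
import Cfsg.Agent.H715.Fpr.RowTools
import Cfsg.Agent.H444.FprMIdx
import Cfsg.Agent.H444.FprBM

/-!
# The rows `p = 17, 19, 31` of the sharp table of fixed point ratios for the Monster (helper715)

* `rowIso` : `FprRow (p + 1) 1 p` for `Spor.IsoM`, `p = 17, 19, 31`.
-/

set_option autoImplicit false
open Subgroup MulAction

namespace Cfsg.Agent.H715.Mon.Row

open Cfsg Cfsg.Agent.MonsterX Cfsg.Agent.MonsterX.InstData
open Cfsg.Agent.H444.FprM (MG card_M)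
open Cfsg.Agent.H409 (FprRow)
open Cfsg.Agent.H940.Eng (Base)
open Cfsg.Agent.H715.Mon.Cent Cfsg.Agent.H715.Mon.Grp

/-- the row from a bound of the centralizers -/
theorem row_of {p c : ℕ} (hp : p.Prime) (hd : p ∣ Nat.card MG) (h2 : ¬ p ^ 2 ∣ Nat.card MG)
    (hc : ∀ y : MG, orderOf y = p → Nat.card (centralizer ({y} : Set MG)) ≤ c * p)
    (hle : (p + 1) * ((p - 1) * c) ≤ 196883) : FprRow (p + 1) 1 p MG := by
  have hf := Cfsg.Agent.H444.FprM.finite
  have hF : Fact p.Prime := ⟨hp⟩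
  intro H hH
  have hN : ∀ R : Subgroup MG, Nat.card R = p → Nat.card (normalizer (R : Set MG)) ≤ (p - 1) * (c * p) := by
    intro R hR
    refine (H715.Fpr.card_normalizer_le hp hR).trans (Nat.mul_le_mul_left _ ?_)
    obtain ⟨y, hy⟩ := exists_prime_orderOf_dvd_card' (G := R) p (by rw [hR])
    have h4 : orderOf (y : MG) = p := by rw [Subgroup.orderOf_coe, hy]
    refine le_trans (Nat.card_mono (Set.toFinite _) ?_) (hc y h4)
    intro g hg
    rw [SetLike.mem_coe, mem_centralizer_singleton_iff]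
    exact (mem_centralizer_iff.1 hg y y.2).symm
  obtain ⟨x, hx, h3, -⟩ := H715.Fpr.fix_prime hp hd h2 hN H
  refine ⟨x, hx, ?_⟩
  have h4 := Cfsg.Agent.H444.FprMIdx.idx hH
  have h5 : Nat.card (fixedBy (MG ⧸ H) x) ≤ (p - 1) * c := by
    refine Nat.le_of_mul_le_mul_left (c := p) ?_ hp.pos
    calc p * Nat.card (fixedBy (MG ⧸ H) x) ≤ (p - 1) * (c * p) := h3
      _ = p * ((p - 1) * c) := by ring
  rw [one_mul]
  exact ((Nat.mul_le_mul_left (p + 1) h5).trans hle).trans h4

theorem row (B : Base) {p : ℕ} (hp : p = 17 ∨ p = 19 ∨ p = 31) : FprRow (p + 1) 1 p MG := by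
  have hf := Cfsg.Agent.H444.FprM.finite
  rcases hp with rfl | rfl | rfl
  · refine row_of (c := 168) (by norm_num) (by rw [card_M]; norm_num) (by rw [card_M]; norm_num) (fun y hy => ?_)
      (by norm_num)
    exact Nat.le_of_dvd (by norm_num) (Cfsg.Agent.H241.Mon.card_seventeen (three B) hy)
  · exact row_of (c := 60) (by norm_num) (by rw [card_M]; norm_num) (by rw [card_M]; norm_num)
      (fun y hy => card19 (sThree B) hy) (by norm_num)
  · exact row_of (c := 6) (by norm_num) (by rw [card_M]; norm_num) (by rw [card_M]; norm_num)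
      (fun y hy => (card31 (sThree B) hy).le) (by norm_num)

universe u in
/-- **`FprRow (p + 1) 1 p` for the Monster, `p = 17, 19, 31`** -/
theorem rowIso (B : Base) {S : Type u} [Group S] (h : Spor.IsoM S) {p : ℕ} (hp : p = 17 ∨ p = 19 ∨ p = 31) :
    FprRow (p + 1) 1 p S := by
  have := Cfsg.Agent.H444.FprM.finite
  obtain ⟨f⟩ := h
  obtain ⟨g⟩ := MonsterP.Equiv.equiv
  exact (row B hp).of_mulEquiv (by rcases hp with rfl | rfl | rfl <;> norm_num) (f.trans g).symm

end Cfsg.Agent.H715.Mon.Row
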