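import Cfsg.Agent.H241.NHMonB
import Cfsg.Agent.H341.SelfThree
import Cfsg.Agent.H940.EngData
import Cfsg.Agent.H413.JOneLocal
import Cfsg.Agent.SmallSimple.S1000.PSLFacts

/-!
# Groups with self-centralizing elements of orders 3 and 5 and few orders of products of involutions (helper715)

* `SThree` : the theorem of Feit and Thompson (S3331); `sThree` : it holds (`Base`);
* `card_six` : `v` of order 3 with `C(v) = ⟨v⟩`, `4 ∤ |K|`, the products of two involutions have one order: `|K| = 6`;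
* `card_le` : `v`, `w` of orders 3, 5 with `C(v) = ⟨v⟩`, `C(w) = ⟨w⟩`, the products of two involutions have at most three
  orders, `≤ 6`: `|K| ≤ 60`.
-/

set_option autoImplicit false
open Subgroup Cfsg
open scoped Pointwise

namespace Cfsg.Agent.H715.Mon.Grp

universe u

/-- **S3331**, as a hypothesis -/
def SThree : Prop := ∀ (G : Type u) [Group G] [Finite G] (X : Subgroup G), Nat.card X = 3 →
      Subgroup.centralizer (X : Set G) = X →
    (∃ (N : Subgroup G) (_ : N.Normal), Group.IsNilpotent N ∧ (Nat.card N).Coprime 3 ∧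
        (Nat.card (G ⧸ N) = 3 ∨ Nonempty (G ⧸ N ≃* Equiv.Perm (Fin 3)))) ∨
    (∃ (N : Subgroup G) (_ : N.Normal), IsMulCommutative N ∧ (∀ n ∈ N, n ^ 2 = 1) ∧
        Nonempty (G ⧸ N ≃* alternatingGroup (Fin 5))) ∨
    Nonempty (G ≃* Matrix.ProjectiveSpecialLinearGroup (Fin 2) (ZMod 7))

/-- in `J₁` an involution centralizes an element of order 3 -/
theorem jone (S : Type*) [Group S] (hS : Spor.IsoJ1 S) :
    ∃ g k : S, orderOf g = 3 ∧ g * k = k * g ∧ k ^ 3 ≠ 1 := by
  obtain ⟨e⟩ := hS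
  refine ⟨e.symm H413.JOneLocal.b, e.symm H413.JOneLocal.u, ?_, ?_, ?_⟩
  · rw [MulEquiv.orderOf_eq]
    have : Fact (Nat.Prime 3) := ⟨Nat.prime_three⟩
    exact orderOf_eq_prime H413.JOneLocal.b_cu H413.JOneLocal.b_ne
  · rw [← map_mul, ← map_mul, H413.JOneLocal.bu]
  · rw [← map_pow, ne_eq, EmbeddingLike.map_eq_one_iff, pow_succ, H413.JOneLocal.u_sq, one_mul]
    exact H413.JOneLocal.u_ne

theorem sThree (B : Cfsg.Agent.H940.Eng.Base) : SThree.{0} := fun _ _ _ X hX hC =>
  H341.SelfThree.main B.table jone B.known X hX hC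

/-- the form of helper241 -/
theorem three (B : Cfsg.Agent.H940.Eng.Base) : Cfsg.Agent.H241.NH.Three.{0} := by
  intro K _ _ T hT hC
  rcases sThree B K T hT hC with ⟨N, hN, h1, -, h3⟩ | ⟨N, hN, -, h2, ⟨e⟩⟩ | ⟨⟨e⟩⟩
  · refine Or.inl ⟨N, hN, h1, ?_⟩
    rcases h3 with h3 | ⟨⟨e⟩⟩
    · exact Or.inl h3
    · right
      rw [Nat.card_congr e.toEquiv, Nat.card_eq_fintype_card, Fintype.card_perm, Fintype.card_fin]
      rfl
  · refine Or.inr (Or.inl ⟨N, hN, h2, ?_⟩)
    rw [Nat.card_congr e.toEquiv]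
    have h4 : 2 * Nat.card (alternatingGroup (Fin 5)) = 2 * 60 := by
      rw [Nat.card_eq_fintype_card, two_mul_card_alternatingGroup, Fintype.card_perm, Fintype.card_fin]
      rfl
    omega
  · right; right
    rw [Nat.card_congr e.toEquiv]
    have : Fact (Nat.Prime 7) := ⟨by norm_num⟩
    exact Cfsg.Agent.SmallSimple.PSLFacts.card_psl_two_seven (ZMod.card 7)

section

variable {K : Type u} [Group K]

/-- elements inverting a self-centralizing element of odd order are of order at most 2 -/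
theorem sq_of_inverts {v x : K} (hv : Odd (orderOf v)) (hC : ∀ g : K, g * v = v * g → g ∈ zpowers v)
    (hx : x * v * x⁻¹ = v⁻¹) : x * x = 1 := by
  have h1 : x * x * v = v * (x * x) := by
    have h2 : x * x * v * (x * x)⁻¹ = v := by
      calc x * x * v * (x * x)⁻¹ = x * (x * v * x⁻¹) * x⁻¹ := by group
        _ = (x * v * x⁻¹)⁻¹ := by
          rw [hx, ← conj_inv, hx]
        _ = v := by rw [hx, inv_inv]
    calc x * x * v = x * x * v * (x * x)⁻¹ * (x * x) := by group
      _ = v * (x * x) := by rw [h2]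
  obtain ⟨i, hi⟩ := hC _ h1
  have hi : v ^ i = x * x := hi
  have h3 : x * v ^ i * x⁻¹ = (v ^ i)⁻¹ := by
    rw [← conj_zpow, hx, inv_zpow]
  have h4 : x * v ^ i * x⁻¹ = v ^ i := by
    rw [hi]; group
  have h5 : (v ^ i) ^ 2 = 1 := by
    rw [pow_two]
    calc v ^ i * v ^ i = (v ^ i)⁻¹ * v ^ i := by rw [← h3, h4]
      _ = 1 := by group
  have h6 : orderOf (v ^ i) ∣ 2 := orderOf_dvd_of_pow_eq_one h5
  have h7 : orderOf (v ^ i) ∣ orderOf v := by
    refine orderOf_dvd_of_pow_eq_one ?_
    rw [← zpow_natCast, ← zpow_mul, mul_comm, zpow_mul, zpow_natCast, pow_orderOf_eq_one, one_zpow]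
  have h8 : orderOf (v ^ i) ∣ Nat.gcd 2 (orderOf v) := Nat.dvd_gcd h6 h7
  rw [Nat.coprime_two_left.2 hv] at h8
  rw [← hi]
  exact orderOf_eq_one_iff.1 (Nat.dvd_one.1 h8)

/-- a coset on which `v` acts fixed point freely -/
theorem exists_inverts [Finite K] {N : Subgroup K} (hN : N.Normal) {v g : K} (h1 : ∀ n ∈ N, n * v = v * n → n = 1)
    (hg : g * v * g⁻¹ * v ∈ N) : ∃ x : K, x * v * x⁻¹ = v⁻¹ := by
  have hmem : ∀ m : N, (m : K)⁻¹ * v⁻¹ * m * v ∈ N := by
    intro m
    have h2 := hN.conj_mem (m : K) m.2 v⁻¹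
    have h3 : (m : K)⁻¹ * v⁻¹ * m * v = (m : K)⁻¹ * (v⁻¹ * m * v⁻¹⁻¹) := by group
    rw [h3]
    exact N.mul_mem (N.inv_mem m.2) h2
  let f : N → N := fun m => ⟨(m : K)⁻¹ * v⁻¹ * m * v, hmem m⟩
  have hf : Function.Injective f := by
    intro a b hab
    have h2 : (a : K)⁻¹ * v⁻¹ * a * v = (b : K)⁻¹ * v⁻¹ * b * v := congrArg Subtype.val hab
    have h3 : (a : K)⁻¹ * v⁻¹ * a = (b : K)⁻¹ * v⁻¹ * b := mul_right_cancel h2
    have h4 : ((b : K) * (a : K)⁻¹) * v = v * ((b : K) * (a : K)⁻¹) := by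
      have h5 : ((b : K) * (a : K)⁻¹) * v⁻¹ = v⁻¹ * ((b : K) * (a : K)⁻¹) := by
        calc ((b : K) * (a : K)⁻¹) * v⁻¹ = b * ((a : K)⁻¹ * v⁻¹ * a) * (a : K)⁻¹ := by group
          _ = b * ((b : K)⁻¹ * v⁻¹ * b) * (a : K)⁻¹ := by rw [h3]
          _ = _ := by group
      have h6 := (show Commute ((b : K) * (a : K)⁻¹) v⁻¹ from h5).inv_right
      rw [inv_inv] at h6
      exact h6.eq
    have h6 := h1 _ (N.mul_mem b.2 (N.inv_mem a.2)) h4
    exact Subtype.ext (mul_inv_eq_one.1 h6).symm
  obtain ⟨m, hm⟩ := (Finite.injective_iff_surjective.1 hf) ⟨_, hg⟩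
  have h2 : (m : K)⁻¹ * v⁻¹ * m * v = g * v * g⁻¹ * v := congrArg Subtype.val hm
  have h3 : (m : K)⁻¹ * v⁻¹ * m = g * v * g⁻¹ := mul_right_cancel h2
  refine ⟨m * g, ?_⟩
  calc (m : K) * g * v * (m * g)⁻¹ = m * (g * v * g⁻¹) * (m : K)⁻¹ := by group
    _ = m * ((m : K)⁻¹ * v⁻¹ * m) * (m : K)⁻¹ := by rw [h3]
    _ = v⁻¹ := by group

theorem real_alt : ∀ a : alternatingGroup (Fin 5), a ^ 3 = 1 ∨ a ^ 5 = 1 →
    ∃ h : alternatingGroup (Fin 5), h * a * h⁻¹ = a⁻¹ := by
  decide +kernel

theorem perm_three : ∀ a b : Equiv.Perm (Fin 3), (a * a = 1 ∧ a ≠ 1 ∧ b * b * b = 1 ∧ b ≠ 1) →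
    (a * (b * a * b⁻¹)) * (a * (b * a * b⁻¹)) * (a * (b * a * b⁻¹)) = 1 ∧ a * (b * a * b⁻¹) ≠ 1 := by
  decide +kernel

/-- the commutators have odd order -/
theorem odd_commutator [Finite K] (h : ¬ 4 ∣ Nat.card K) (a b : K) : Odd (orderOf (a * b * a⁻¹ * b⁻¹)) := by
  by_cases h2 : 2 ∣ Nat.card K
  · have : Fact (Nat.Prime 2) := ⟨Nat.prime_two⟩
    let P : Sylow 2 K := default
    have hcard : Nat.card P ∣ 2 := by
      obtain ⟨n, hn⟩ := IsPGroup.iff_card.mp P.isPGroup'
      have h1 : Nat.card P ∣ Nat.card K := Subgroup.card_subgroup_dvd_card _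
      rw [hn] at h1 ⊢
      have hn1 : n ≤ 1 := by
        by_contra hcon
        push Not at hcon
        exact h ((pow_dvd_pow 2 hcon).trans h1)
      exact (pow_dvd_pow 2 hn1).trans (by norm_num)
    have hcyc : IsCyclic P := isCyclic_of_card_dvd_prime (p := 2) hcard
    have hmin : (Nat.card K).minFac = 2 := (Nat.minFac_eq_two_iff _).mpr h2
    let f := MonoidHom.transferSylow P (hcyc.normalizer_le_centralizer hmin)
    have hodd : Odd (Nat.card f.ker) := by
      rw [← Nat.not_even_iff_odd, even_iff_two_dvd]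
      exact MonoidHom.not_dvd_card_ker_transferSylow P _
    have hmem : a * b * a⁻¹ * b⁻¹ ∈ f.ker := by
      rw [MonoidHom.mem_ker, map_mul, map_mul, map_mul, map_inv, map_inv]
      have h3 : f a * f b = f b * f a := by
        have : IsMulCommutative P := IsCyclic.isMulCommutative
        exact this.is_comm.comm _ _
      rw [h3]
      group
    exact hodd.of_dvd_nat (Subgroup.orderOf_dvd_natCard _ hmem)
  · have h3 : Odd (Nat.card K) := by rwa [← Nat.not_even_iff_odd, even_iff_two_dvd]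
    exact h3.of_dvd_nat (orderOf_dvd_natCard _)

/-- the normal Sylow subgroup -/
theorem exists_normal [Finite K] {N : Subgroup K} (hN : N.Normal) (hnil : Group.IsNilpotent N) {q : ℕ} (hq : q.Prime)
    (hq2 : ¬ q ^ 2 ∣ Nat.card K) (hd : q ∣ Nat.card N) : ∃ X : Subgroup K, X.Normal ∧ Nat.card X = q := by
  have hFq : Fact q.Prime := ⟨hq⟩
  obtain ⟨P⟩ : Nonempty (Sylow q N) := inferInstance
  have hPn : (P : Subgroup N).Normal := by
    have h4 : NormalizerCondition N := Group.normalizerCondition_of_isNilpotent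
    exact Sylow.normal_of_normalizerCondition h4 P
  have hPc : (P : Subgroup N).Characteristic := P.characteristic_of_normal hPn
  have hPK : ((P : Subgroup N).map N.subtype).Normal := ConjAct.normal_of_characteristic_of_normal
  refine ⟨_, hPK, ?_⟩
  rw [Subgroup.card_map_of_injective N.subtype_injective]
  obtain ⟨k, hk⟩ := IsPGroup.iff_card.1 P.2
  have h4 : k < 2 := by
    by_contra hk2
    refine hq2 ((Nat.pow_dvd_pow q (not_lt.1 hk2)).trans ?_)
    rw [← hk]
    exact (card_subgroup_dvd_card _).trans (card_subgroup_dvd_card _)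
  have h5 : q ∣ Nat.card (P : Subgroup N) := P.dvd_card_of_dvd_card hd
  rw [hk] at h5 ⊢
  interval_cases k
  · exact absurd (Nat.dvd_one.1 (by simpa using h5)) hq.one_lt.ne'
  · exact pow_one q

/-- elements of coprime orders -/
theorem eq_one_of {x : K} {m n : ℕ} (h : Nat.Coprime m n) (h1 : orderOf x ∣ m) (h2 : orderOf x ∣ n) : x = 1 := by
  have h3 := Nat.dvd_gcd h1 h2
  rw [h] at h3
  exact orderOf_eq_one_iff.1 (Nat.dvd_one.1 h3)

theorem order_of_mem_zpowers {x v : K} (h : x ∈ zpowers v) : orderOf x ∣ orderOf v := by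
  obtain ⟨i, rfl⟩ := h
  refine orderOf_dvd_of_pow_eq_one ?_
  show (v ^ i) ^ orderOf v = 1
  rw [← zpow_natCast, ← zpow_mul, mul_comm, zpow_mul, zpow_natCast, pow_orderOf_eq_one, one_zpow]

theorem centralizer_eq {v : K} (h : ∀ g : K, g * v = v * g → g ∈ zpowers v) :
    centralizer ((zpowers v : Subgroup K) : Set K) = zpowers v :=
  Cfsg.Agent.H241.NH.centralizer_zpowers_eq h

/-- all subgroups of order `q` are conjugate if `q² ∤ |X|` -/
theorem conj_of_not_sq {X : Type u} [Group X] [Finite X] {q : ℕ} (hq : q.Prime) (hq2 : ¬ q ^ 2 ∣ Nat.card X) {x y : X}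
    (hx : orderOf x = q) (hy : orderOf y = q) : ∃ g : X, g * y * g⁻¹ ∈ zpowers x ∧ x ∈ zpowers (g * y * g⁻¹) := by
  have hFq : Fact q.Prime := ⟨hq⟩
  have hxp : IsPGroup q (zpowers x) := IsPGroup.of_card (n := 1) (by rw [Nat.card_zpowers, hx, pow_one])
  have hyp : IsPGroup q (zpowers y) := IsPGroup.of_card (n := 1) (by rw [Nat.card_zpowers, hy, pow_one])
  obtain ⟨Q, hQ⟩ := hxp.exists_le_sylow
  obtain ⟨R, hR⟩ := hyp.exists_le_sylow
  obtain ⟨g, hg⟩ := MulAction.exists_smul_eq X R Q
  have hQx : (Q : Subgroup X) = zpowers x := by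
    symm
    refine Subgroup.eq_of_le_of_card_ge hQ ?_
    obtain ⟨k, hk⟩ := IsPGroup.iff_card.1 Q.2
    rw [hk, Nat.card_zpowers, hx]
    have h4 : k < 2 := by
      by_contra hk2
      refine hq2 ((Nat.pow_dvd_pow q (not_lt.1 hk2)).trans ?_)
      rw [← hk]; exact card_subgroup_dvd_card _
    calc q ^ k ≤ q ^ 1 := Nat.pow_le_pow_right hq.pos (by omega)
      _ = q := pow_one q
  have h5 : g * y * g⁻¹ ∈ zpowers x := by
    rw [← hQx, ← hg]
    have h1 : y ∈ (R : Subgroup X) := hR (mem_zpowers y)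
    show _ ∈ (MulAut.conj g • (R : Subgroup X))
    exact Subgroup.smul_mem_pointwise_smul y (MulAut.conj g) _ h1
  refine ⟨g, h5, ?_⟩
  have h6 : orderOf (g * y * g⁻¹) = q := by
    have := MulEquiv.orderOf_eq (MulAut.conj g) y
    rw [MulAut.conj_apply] at this
    rw [this, hy]
  have h7 : zpowers (g * y * g⁻¹) = zpowers x := by
    refine Subgroup.eq_of_le_of_card_ge (by rw [zpowers_le]; exact h5) ?_
    rw [Nat.card_zpowers, Nat.card_zpowers, hx, h6]
  rw [h7]; exact mem_zpowers x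

/-- **one order of products of involutions** -/
theorem card_six (h3 : SThree.{u}) [Finite K] (h4 : ¬ 4 ∣ Nat.card K) (h2 : 2 ∣ Nat.card K) {v : K}
    (hv : orderOf v = 3) (hC : ∀ g : K, g * v = v * g → g ∈ zpowers v)
    (h6 : ∀ a b : K, orderOf a = 2 → orderOf b = 2 → orderOf (a * b) ≤ 6)
    {m : ℕ} (hm : ∀ a b : K, orderOf a = 2 → orderOf b = 2 → a ≠ b → orderOf (a * b) = m) : Nat.card K = 6 := by
  have hF2 : Fact (Nat.Prime 2) := ⟨Nat.prime_two⟩
  have hT : Nat.card (zpowers v) = 3 := by rw [Nat.card_zpowers, hv]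
  rcases h3 K (zpowers v) hT (centralizer_eq hC) with ⟨N, hN, hnil, hcop, h36⟩ | ⟨N, hN, -, -, ⟨e⟩⟩ | ⟨⟨e⟩⟩
  · obtain ⟨s, hs⟩ := exists_prime_orderOf_dvd_card' (G := K) 2 h2
    have hss : s * s = 1 := by rw [← pow_two, ← hs, pow_orderOf_eq_one]
    have hsi : s⁻¹ = s := inv_eq_of_mul_eq_one_left hss
    have hcN := N.card_mul_index
    -- `s ∉ N`
    have h2N : ¬ 2 ∣ Nat.card N := by
      intro hd
      obtain ⟨X, hX, hXc⟩ := exists_normal hN hnil Nat.prime_two (by norm_num; exact h4) hd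
      obtain ⟨x, hx⟩ := exists_prime_orderOf_dvd_card' (G := X) 2 (by rw [hXc])
      have h7 := Cfsg.Agent.H241.NH.comm_of_normal Nat.prime_three Nat.prime_two (by norm_num) hX hXc hv x x.2
      have h8 := order_of_mem_zpowers (hC _ h7)
      rw [Subgroup.orderOf_coe, hx, hv] at h8
      norm_num at h8
    have hsN : s ∉ N := by
      intro h
      apply h2N
      rw [← hs, ← Subgroup.orderOf_mk s h]
      exact orderOf_dvd_natCard _
    have hvN : v ∉ N := by
      intro h
      have h7 : orderOf v ∣ Nat.card N := by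
        rw [← Subgroup.orderOf_mk v h]
        exact orderOf_dvd_natCard _
      rw [hv] at h7
      have h8 := Nat.dvd_gcd h7 (dvd_refl 3)
      rw [hcop] at h8
      norm_num at h8
    rcases h36 with h36 | ⟨⟨e⟩⟩
    · exfalso
      have h7 : orderOf (QuotientGroup.mk s : K ⧸ N) ∣ 2 := by
        rw [← hs]; exact orderOf_map_dvd (QuotientGroup.mk' N) s
      have h8 : orderOf (QuotientGroup.mk s : K ⧸ N) ∣ 3 := by
        rw [← h36]; exact orderOf_dvd_natCard _
      exact hsN ((QuotientGroup.eq_one_iff s).1 (eq_one_of (by norm_num) h7 h8))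
    have hidx : N.index = 6 := by
      show Nat.card (K ⧸ N) = 6
      rw [Nat.card_congr e.toEquiv, Nat.card_eq_fintype_card, Fintype.card_perm, Fintype.card_fin]
      rfl
    rw [hidx] at hcN
    -- `d = s s ^ v` of order 3
    let φ : K →* Equiv.Perm (Fin 3) := e.toMonoidHom.comp (QuotientGroup.mk' N)
    have hφ : ∀ x : K, φ x = 1 ↔ x ∈ N := by
      intro x
      rw [← QuotientGroup.eq_one_iff x]
      constructor
      · intro h
        exact e.injective (by rw [map_one]; exact h)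
      · intro h
        show e (QuotientGroup.mk x) = 1
        rw [h, map_one]
    set s' := v * s * v⁻¹ with hs'
    have hs'o : orderOf s' = 2 := by
      rw [hs', ← hs]
      exact orderOf_injective (MulAut.conj v).toMonoidHom (MulAut.conj v).injective s
    have hv3 : v * v * v = 1 := by
      rw [← pow_two, ← pow_succ]
      show v ^ 3 = 1
      rw [← hv, pow_orderOf_eq_one]
    obtain ⟨k1, k2⟩ := perm_three (φ s) (φ v) ⟨by rw [← map_mul, hss, map_one], fun h => hsN ((hφ s).1 h),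
      by rw [← map_mul, ← map_mul, hv3, map_one], fun h => hvN ((hφ v).1 h)⟩
    have hφd : φ (s * s') = φ s * (φ v * φ s * (φ v)⁻¹) := by
      rw [hs', map_mul, map_mul, map_mul, map_inv]
    have hd3 : orderOf (φ (s * s')) = 3 := by
      have : Fact (Nat.Prime 3) := ⟨Nat.prime_three⟩
      refine orderOf_eq_prime ?_ ?_
      · rw [hφd, pow_succ, pow_two]; exact k1
      · rw [hφd]; exact k2
    have hdo : orderOf (s * s') = 3 := by
      have h7 : 3 ∣ orderOf (s * s') := by rw [← hd3]; exact orderOf_map_dvd φ _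
      have h8 := h6 s s' hs hs'o
      have h9 := odd_commutator h4 s v
      rw [hsi] at h9
      have h10 : s * v * s * v⁻¹ = s * s' := by rw [hs']; group
      rw [h10] at h9
      obtain ⟨j, hj⟩ := h9
      obtain ⟨i, hi⟩ := h7
      have := orderOf_pos (s * s')
      omega
    have hne : s ≠ s' := by
      intro h
      rw [← h, hss, orderOf_one] at hdo
      norm_num at hdo
    have hm3 : m = 3 := by rw [← hm s s' hs hs'o hne, hdo]
    -- `s` commutes with `N`
    have key : ∀ n ∈ N, n * s = s * n := by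
      intro n hn
      have hno : orderOf (n * s * n⁻¹) = 2 := by
        rw [← hs]
        exact orderOf_injective (MulAut.conj n).toMonoidHom (MulAut.conj n).injective s
      by_contra hcon
      have h7 : s ≠ n * s * n⁻¹ := fun h => hcon (by rw [eq_mul_inv_iff_mul_eq] at h; exact h.symm)
      have h8 := hm s _ hs hno h7
      have h9 : s * (n * s * n⁻¹) ∈ N := by
        have h10 : s * (n * s * n⁻¹) = (s * n * s⁻¹) * n⁻¹ := by rw [hsi]; group
        rw [h10]
        exact N.mul_mem (hN.conj_mem n hn s) (N.inv_mem hn)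
      have h10 : orderOf (s * (n * s * n⁻¹)) ∣ Nat.card N := by
        rw [← Subgroup.orderOf_mk _ h9]
        exact orderOf_dvd_natCard _
      rw [h8, hm3] at h10
      have h11 := Nat.dvd_gcd h10 (dvd_refl 3)
      rw [hcop] at h11
      norm_num at h11
    have key' : ∀ n ∈ N, n * s' = s' * n := by
      intro n hn
      have h7 := key (v⁻¹ * n * v) (by
        have := hN.conj_mem n hn v⁻¹
        rwa [inv_inv] at this)
      rw [hs']
      calc n * (v * s * v⁻¹) = v * (v⁻¹ * n * v * s) * v⁻¹ := by group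
        _ = v * (s * (v⁻¹ * n * v)) * v⁻¹ := by rw [h7]
        _ = v * s * v⁻¹ * n := by group
    have h9 : ¬ 3 ^ 2 ∣ Nat.card K := by
      rw [← hcN]
      intro h
      have h7 : 3 * 3 ∣ (Nat.card N * 2) * 3 := by
        rw [mul_assoc]
        exact h
      have h8 : 3 ∣ Nat.card N * 2 := Nat.dvd_of_mul_dvd_mul_right (by norm_num) h7
      have h9 : 3 ∣ Nat.card N := (by norm_num : Nat.Coprime 3 2).dvd_of_dvd_mul_right h8
      have h10 := Nat.dvd_gcd h9 (dvd_refl 3)
      rw [hcop] at h10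
      norm_num at h10
    obtain ⟨g, hg1, hg2⟩ := conj_of_not_sq Nat.prime_three h9 hv hdo
    have hbot : N = ⊥ := by
      rw [eq_bot_iff]
      intro n hn
      have h7 : n * (s * s') = s * s' * n :=
        ((show Commute n s from key n hn).mul_right (show Commute n s' from key' n hn)).eq
      have h8 : Commute (g * n * g⁻¹) (g * (s * s') * g⁻¹) := by
        show g * n * g⁻¹ * (g * (s * s') * g⁻¹) = g * (s * s') * g⁻¹ * (g * n * g⁻¹)
        calc g * n * g⁻¹ * (g * (s * s') * g⁻¹) = g * (n * (s * s')) * g⁻¹ := by group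
          _ = g * (s * s' * n) * g⁻¹ := by rw [h7]
          _ = _ := by group
      obtain ⟨i, hi⟩ := hg2
      have hi : (g * (s * s') * g⁻¹) ^ i = v := hi
      have h10 : Commute (g * n * g⁻¹) v := by rw [← hi]; exact h8.zpow_right i
      have h11 := order_of_mem_zpowers (hC _ h10.eq)
      rw [hv] at h11
      have h12 : orderOf (g * n * g⁻¹) = orderOf n :=
        orderOf_injective (MulAut.conj g).toMonoidHom (MulAut.conj g).injective n
      rw [h12] at h11
      have h13 : orderOf n ∣ Nat.card N := by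
        rw [← Subgroup.orderOf_mk n hn]
        exact orderOf_dvd_natCard _
      exact mem_bot.2 (eq_one_of hcop h13 h11)
    rw [← hcN, hbot, card_bot, one_mul]
  · exfalso
    apply h4
    have h60 : N.index = 60 := by
      show Nat.card (K ⧸ N) = 60
      rw [Nat.card_congr e.toEquiv]
      have h5 : 2 * Nat.card (alternatingGroup (Fin 5)) = 2 * 60 := by
        rw [Nat.card_eq_fintype_card, two_mul_card_alternatingGroup, Fintype.card_perm, Fintype.card_fin]
        rfl
      omega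
    rw [← N.card_mul_index, h60]
    exact Dvd.dvd.mul_left (by norm_num) _
  · exfalso
    apply h4
    have : Fact (Nat.Prime 7) := ⟨by norm_num⟩
    rw [Nat.card_congr e.toEquiv, Cfsg.Agent.SmallSimple.PSLFacts.card_psl_two_seven (ZMod.card 7)]
    norm_num

/-- a nilpotent normal subgroup containing a self-centralizing element of prime order -/
theorem card_dvd_of_nilpotent [Finite K] {N : Subgroup K} (hnil : Group.IsNilpotent N) {w : K} {q : ℕ}
    (hq : q.Prime) (hw : orderOf w = q) (hC : ∀ g : K, g * w = w * g → g ∈ zpowers w) (hwN : w ∈ N) :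
    Nat.card N ∣ q := by
  have hFq : Fact q.Prime := ⟨hq⟩
  have hne : Nontrivial N := ⟨⟨⟨w, hwN⟩, 1, fun h => by
    have h1 : w = 1 := congrArg Subtype.val h
    rw [h1, orderOf_one] at hw
    exact hq.one_lt.ne hw⟩⟩
  have hcen : Nontrivial (center N) := (Subgroup.nontrivial_iff_ne_bot _).2 (Group.IsNilpotent.center_ne_bot N)
  obtain ⟨c, hc⟩ := exists_ne (1 : center N)
  have h1 : ((c : N) : K) * w = w * ((c : N) : K) := by
    have h2 := mem_center_iff.1 c.2 ⟨w, hwN⟩
    exact (congrArg Subtype.val h2).symm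
  obtain ⟨i, hi⟩ := hC _ h1
  have hi : w ^ i = ((c : N) : K) := hi
  have hcne : ((c : N) : K) ≠ 1 := by
    intro h2
    apply hc
    exact Subtype.ext (Subtype.ext h2)
  have h2 : w ∈ zpowers ((c : N) : K) := by
    have h3 : Nat.card (zpowers ((c : N) : K)) = q := by
      rw [Nat.card_zpowers]
      refine orderOf_eq_prime ?_ hcne
      rw [← hi, ← zpow_natCast, ← zpow_mul, mul_comm, zpow_mul, zpow_natCast, ← hw, pow_orderOf_eq_one, one_zpow]
    have h4 : zpowers ((c : N) : K) = zpowers w := by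
      refine Subgroup.eq_of_le_of_card_ge ?_ ?_
      · rw [zpowers_le]; exact ⟨i, hi⟩
      · rw [h3, Nat.card_zpowers, hw]
    rw [h4]; exact mem_zpowers w
  obtain ⟨j, hj⟩ := h2
  have hj : ((c : N) : K) ^ j = w := hj
  have h3 : N ≤ zpowers w := by
    intro n hn
    apply hC
    rw [← hj]
    have h4 := mem_center_iff.1 c.2 ⟨n, hn⟩
    have h5 : n * ((c : N) : K) = ((c : N) : K) * n := congrArg Subtype.val h4
    exact ((show Commute n ((c : N) : K) from h5).zpow_right j).eq
  have := card_dvd_of_le h3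
  rwa [Nat.card_zpowers, hw] at this

/-- self-centralizing elements of order 3 or 5 are inverted by involutions if `K/N` is `A₅` -/
theorem exists_inv [Finite K] {N : Subgroup K} [hN : N.Normal] (hsq : ∀ n ∈ N, n ^ 2 = 1)
    (e : K ⧸ N ≃* alternatingGroup (Fin 5)) {w : K} {q : ℕ} (hq : q = 3 ∨ q = 5) (hw : orderOf w = q)
    (hC : ∀ g : K, g * w = w * g → g ∈ zpowers w) :
    ∃ x : K, orderOf x = 2 ∧ x * w * x⁻¹ = w⁻¹ ∧ (∀ n ∈ N, n * w = w * n → n = 1) ∧ x ∉ N := by
  have hodd : Odd (orderOf w) := by rw [hw]; rcases hq with rfl | rfl <;> decide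
  have hN1 : ∀ n ∈ N, n * w = w * n → n = 1 := by
    intro n hn h
    have h1 := order_of_mem_zpowers (hC n h)
    exact eq_one_of (Nat.coprime_two_left.2 hodd) (orderOf_dvd_of_pow_eq_one (hsq n hn)) h1
  have hwq : w ^ q = 1 := by rw [← hw, pow_orderOf_eq_one]
  have ha : (e (QuotientGroup.mk w)) ^ 3 = 1 ∨ (e (QuotientGroup.mk w)) ^ 5 = 1 := by
    have h1 : (e (QuotientGroup.mk w)) ^ q = 1 := by
      rw [← map_pow, ← QuotientGroup.mk_pow, hwq, QuotientGroup.mk_one, map_one]
    rcases hq with rfl | rfl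
    · exact Or.inl h1
    · exact Or.inr h1
  obtain ⟨h, hh⟩ := real_alt _ ha
  obtain ⟨g', hg'⟩ := e.surjective h
  obtain ⟨g, rfl⟩ := QuotientGroup.mk_surjective g'
  have hg : g * w * g⁻¹ * w ∈ N := by
    rw [← QuotientGroup.eq_one_iff]
    apply e.injective
    rw [map_one]
    have h1 : e ((g * w * g⁻¹ * w : K) : K ⧸ N) = e (g : K ⧸ N) * e (w : K ⧸ N) * (e (g : K ⧸ N))⁻¹ * e (w : K ⧸ N) := by
      rw [← map_inv, ← map_mul, ← map_mul, ← map_mul]
      rfl
    rw [h1, hg', hh, inv_mul_cancel]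
  obtain ⟨x, hx⟩ := exists_inverts hN hN1 hg
  have hxx := sq_of_inverts hodd hC hx
  have hw2 : w ^ 2 ≠ 1 := by
    intro h1
    have h2 := eq_one_of (Nat.coprime_two_left.2 hodd) (orderOf_dvd_of_pow_eq_one h1) dvd_rfl
    rw [h2, orderOf_one] at hw
    rcases hq with rfl | rfl <;> norm_num at hw
  have hx1 : x ≠ 1 := by
    rintro rfl
    apply hw2
    have h1 : w = w⁻¹ := by simpa using hx
    calc w ^ 2 = w * w := pow_two w
      _ = w⁻¹ * w := by rw [← h1]
      _ = 1 := inv_mul_cancel w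
  refine ⟨x, orderOf_eq_prime (by rw [pow_two]; exact hxx) hx1, hx, hN1, ?_⟩
  intro hxN
  have h1 : w ^ 2 ∈ N := by
    have h2 : (x * w * x⁻¹ * w⁻¹)⁻¹ ∈ N := by
      apply N.inv_mem
      have h3 : x * w * x⁻¹ * w⁻¹ = x * (w * x⁻¹ * w⁻¹) := by group
      rw [h3]
      exact N.mul_mem hxN (hN.conj_mem _ (N.inv_mem hxN) w)
    rw [hx] at h2
    have h4 : (w⁻¹ * w⁻¹)⁻¹ = w ^ 2 := by rw [pow_two, mul_inv_rev, inv_inv]
    rwa [h4] at h2
  exact hw2 (hN1 _ h1 (by group))

theorem orderOf_conj' (g : K) {a : K} {m : ℕ} (h : orderOf a = m) : orderOf (g * a * g⁻¹) = m := by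
  rw [← h]
  exact orderOf_injective (MulAut.conj g).toMonoidHom (MulAut.conj g).injective a

/-- an involution inverting `w` -/
theorem mem_of_pair {l : List ℕ} (hm : ∀ a b : K, orderOf a = 2 → orderOf b = 2 → a ≠ b → orderOf (a * b) ∈ l)
    {x w : K} (hodd : Odd (orderOf w)) (h1 : orderOf w ≠ 1) (hxo : orderOf x = 2) (hx : x * w * x⁻¹ = w⁻¹) :
    orderOf w ∈ l := by
  have hxx : x * x = 1 := by rw [← pow_two, ← hxo, pow_orderOf_eq_one]
  have hxi : x⁻¹ = x := inv_eq_of_mul_eq_one_left hxx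
  have h7 : x * (w * x * w⁻¹) = (w ^ 2)⁻¹ := by
    calc x * (w * x * w⁻¹) = x * w * x⁻¹ * w⁻¹ := by rw [hxi]; group
      _ = (w ^ 2)⁻¹ := by rw [hx, pow_two, mul_inv_rev]
  have h8 : orderOf (x * (w * x * w⁻¹)) = orderOf w := by
    rw [h7, orderOf_inv, Nat.Coprime.orderOf_pow (Nat.coprime_two_right.2 hodd)]
  rw [← h8]
  refine hm _ _ hxo (orderOf_conj' w hxo) fun h => h1 ?_
  rw [← h8, ← h, hxx, orderOf_one]

/-- **three orders of products of involutions** -/
theorem card_le (h3 : SThree.{u}) [Finite K] {v w : K}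
    (hv : orderOf v = 3) (hC : ∀ g : K, g * v = v * g → g ∈ zpowers v)
    (hw : orderOf w = 5) (hwC : ∀ g : K, g * w = w * g → g ∈ zpowers w)
    {l : List ℕ} (hl : l.length ≤ 3)
    (hm : ∀ a b : K, orderOf a = 2 → orderOf b = 2 → a ≠ b → orderOf (a * b) ∈ l) : Nat.card K ≤ 60 := by
  have hT : Nat.card (zpowers v) = 3 := by rw [Nat.card_zpowers, hv]
  rcases h3 K (zpowers v) hT (centralizer_eq hC) with ⟨N, hN, hnil, hcop, h36⟩ | ⟨N, hN, -, hsq, ⟨e⟩⟩ | ⟨⟨e⟩⟩
  · have h6 : Nat.card (K ⧸ N) ∣ 6 := by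
      rcases h36 with h | ⟨⟨e⟩⟩
      · rw [h]; norm_num
      · rw [Nat.card_congr e.toEquiv, Nat.card_eq_fintype_card, Fintype.card_perm, Fintype.card_fin]
        decide
    have hwN : w ∈ N := by
      rw [← QuotientGroup.eq_one_iff]
      refine eq_one_of (m := 5) (n := 6) (by norm_num) ?_ ?_
      · rw [← hw]; exact orderOf_map_dvd (QuotientGroup.mk' N) w
      · exact (_root_.orderOf_dvd_natCard _).trans h6
    have h7 := card_dvd_of_nilpotent hnil Nat.prime_five hw hwC hwN
    have h8 := N.card_mul_index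
    have h9 : N.index ∣ 6 := h6
    have h10 := Nat.le_of_dvd (by norm_num) h7
    have h11 := Nat.le_of_dvd (by norm_num) h9
    rw [← h8]
    calc Nat.card N * N.index ≤ 5 * 6 := Nat.mul_le_mul h10 h11
      _ ≤ 60 := by norm_num
  · have h60 : N.index = 60 := by
      show Nat.card (K ⧸ N) = 60
      rw [Nat.card_congr e.toEquiv]
      have h5 : 2 * Nat.card (alternatingGroup (Fin 5)) = 2 * 60 := by
        rw [Nat.card_eq_fintype_card, two_mul_card_alternatingGroup, Fintype.card_perm, Fintype.card_fin]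
        rfl
      omega
    by_cases hbot : N = ⊥
    · rw [← N.card_mul_index, h60, hbot, card_bot]
    exfalso
    obtain ⟨n, hn, hn1⟩ : ∃ n ∈ N, n ≠ 1 := by
      by_contra hcon
      push Not at hcon
      exact hbot ((Subgroup.eq_bot_iff_forall N).2 hcon)
    have hF2 : Fact (Nat.Prime 2) := ⟨Nat.prime_two⟩
    obtain ⟨x, hxo, hx, hNv, hxN⟩ := exists_inv hsq e (Or.inl rfl) hv hC
    obtain ⟨x', hxo', hx', -, -⟩ := exists_inv hsq e (Or.inr rfl) hw hwC
    have m3 := mem_of_pair hm (by rw [hv]; decide) (by rw [hv]; norm_num) hxo hx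
    have m5 := mem_of_pair hm (by rw [hw]; decide) (by rw [hw]; norm_num) hxo' hx'
    rw [hv] at m3
    rw [hw] at m5
    have hno : orderOf n = 2 := orderOf_eq_prime (hsq n hn) hn1
    have m2 : 2 ∈ l := by
      have h7 : n ≠ v * n * v⁻¹ := by
        intro h
        rw [eq_mul_inv_iff_mul_eq] at h
        exact hn1 (hNv n hn h)
      have h8 : n * (v * n * v⁻¹) ∈ N := N.mul_mem hn (hN.conj_mem n hn v)
      have h9 : n * (v * n * v⁻¹) ≠ 1 := by
        intro h
        have h10 : n⁻¹ = n := inv_eq_of_mul_eq_one_left (by rw [← pow_two]; exact hsq n hn)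
        exact h7 (by rw [← inv_eq_of_mul_eq_one_right h, h10])
      have h10 : orderOf (n * (v * n * v⁻¹)) = 2 := orderOf_eq_prime (hsq _ h8) h9
      rw [← h10]
      exact hm _ _ hno (orderOf_conj' v hno) h7
    have hl' : ∀ k ∈ l, k = 2 ∨ k = 3 ∨ k = 5 := by
      intro k hk
      by_contra hcon
      push Not at hcon
      have h7 : ({k, 2, 3, 5} : Finset ℕ) ⊆ l.toFinset := by
        intro j hj
        simp only [Finset.mem_insert, Finset.mem_singleton] at hj
        rw [List.mem_toFinset]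
        rcases hj with rfl | rfl | rfl | rfl <;> assumption
      have h8 := Finset.card_le_card h7
      have h9 : ({k, 2, 3, 5} : Finset ℕ).card = 4 := by
        rw [Finset.card_insert_of_notMem]
        · rfl
        · simp only [Finset.mem_insert, Finset.mem_singleton]
          push Not
          exact hcon
      have h10 := List.toFinset_card_le l
      omega
    -- `n` commutes with the involutions outside of `N`
    have key : ∀ a : K, orderOf a = 2 → a ∉ N → n * a = a * n := by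
      intro a ha haN
      have h7 : n ≠ a := fun h => haN (h ▸ hn)
      have h8 := hl' _ (hm n a hno ha h7)
      have h9 : 2 ∣ orderOf (n * a) := by
        have h10 : orderOf (QuotientGroup.mk (n * a) : K ⧸ N) = 2 := by
          have h11 : (QuotientGroup.mk (n * a) : K ⧸ N) = QuotientGroup.mk a := by
            rw [QuotientGroup.mk_mul, (QuotientGroup.eq_one_iff n).2 hn, one_mul]
          rw [h11]
          refine orderOf_eq_prime ?_ fun h => haN ((QuotientGroup.eq_one_iff a).1 h)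
          rw [← QuotientGroup.mk_pow, ← ha, pow_orderOf_eq_one, QuotientGroup.mk_one]
        rw [← h10]
        exact orderOf_map_dvd (QuotientGroup.mk' N) (n * a)
      have h10 : orderOf (n * a) = 2 := by
        rcases h8 with h | h | h
        · exact h
        · rw [h] at h9; norm_num at h9
        · rw [h] at h9; norm_num at h9
      have h11 : (n * a) * (n * a) = 1 := by rw [← pow_two, ← h10, pow_orderOf_eq_one]
      have h12 : n * n = 1 := by rw [← pow_two]; exact hsq n hn
      have h13 : a * a = 1 := by rw [← pow_two, ← ha, pow_orderOf_eq_one]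
      calc n * a = (n * a)⁻¹ := (inv_eq_of_mul_eq_one_left h11).symm
        _ = a⁻¹ * n⁻¹ := mul_inv_rev n a
        _ = a * n := by rw [inv_eq_of_mul_eq_one_left h12, inv_eq_of_mul_eq_one_left h13]
    have h7 := key x hxo hxN
    have h8 := key (v * x * v⁻¹) (orderOf_conj' v hxo) (fun h => hxN (by
      have h9 := hN.conj_mem _ h v⁻¹
      have h10 : v⁻¹ * (v * x * v⁻¹) * v⁻¹⁻¹ = x := by group
      rwa [h10] at h9))
    have h9 : Commute n (x * (v * x * v⁻¹)) := (show Commute n x from h7).mul_right h8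
    have h10 : x * (v * x * v⁻¹) = v := by
      have hxx : x⁻¹ = x := inv_eq_of_mul_eq_one_left (by rw [← pow_two, ← hxo, pow_orderOf_eq_one])
      have hv3 : v ^ 3 = 1 := by rw [← hv, pow_orderOf_eq_one]
      calc x * (v * x * v⁻¹) = x * v * x⁻¹ * v⁻¹ := by rw [hxx]; group
        _ = v⁻¹ * v⁻¹ * v ^ 3 := by rw [hx, hv3, mul_one]
        _ = v := by group
    rw [h10] at h9
    exact hn1 (hNv n hn h9.eq)
  · exfalso
    have : Fact (Nat.Prime 7) := ⟨by norm_num⟩
    have h5 : orderOf w ∣ Nat.card K := orderOf_dvd_natCard w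
    rw [hw, Nat.card_congr e.toEquiv, Cfsg.Agent.SmallSimple.PSLFacts.card_psl_two_seven (ZMod.card 7)] at h5
    norm_num at h5

end

end Cfsg.Agent.H715.Mon.Grp
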