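import Cfsg.Agent.H715.Mon.Colour
import Cfsg.Agent.H715.Mon.Grp
import Cfsg.Agent.H241.NHMonF
import Cfsg.Agent.H241.NHMonE
import Cfsg.Agent.H491.PB.ThC
import Cfsg.Agent.H315.PwHN

/-!
# Centralizers of elements of orders 17, 19, 31 of the Monster (helper715)

* `card31` : `|C(y)| = 186`; `card19` : `|C(y)| ≤ 1140`.
-/

set_option autoImplicit false
set_option maxRecDepth 100000
open Subgroup

namespace Cfsg.Agent.H715.Mon.Cent

open Cfsg Cfsg.Agent.H241.NH Cfsg.Agent.H241.Mon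
open Cfsg.Agent.MonsterX Cfsg.Agent.MonsterX.InstData Cfsg.Agent.MonsterX.MainPack
open Cfsg.Agent.MonsterX.Model Cfsg.Agent.MonsterX.MainBasic Cfsg.Agent.MonsterX.MainSimple
open Cfsg.Agent.LThreeMB (XX mk exists_mk mk_eq_one mk_eq_mk Zx self)
open Cfsg.Agent.H715.Mon.Colour (IsT tt ka ka_ne order_eq dvd_card orderOf_conj)
open Cfsg.Agent.H715.Mon.Grp

/-- involutions commuting with `y` -/
theorem isT {r : ℕ} (hz : ¬ r ∣ 2 ^ 25 * 4157776806543360000) {y s : Gam} (hy : orderOf y = r)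
    (hs : orderOf s = 2) (h : s * y = y * s) : IsT s := by
  have A := Cfsg.Agent.MonsterU.Uncond.all
  have hs1 : s ≠ 1 := by
    rintro rfl
    rw [orderOf_one] at hs
    norm_num at hs
  have hss : s * s = 1 := by rw [← pow_two, ← hs, pow_orderOf_eq_one]
  rcases A.classes s hss hs1 with ⟨k, hk⟩ | ⟨k, hk⟩
  · exfalso
    apply hz
    have hzz : KDone.K.z = zG A.hG := Subtype.ext KDone.lnk.z_eq.symm
    have h1 : orderOf y ∣ Nat.card (centralizer ({s} : Set Gam)) := by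
      rw [← Subgroup.orderOf_mk y (mem_centralizer_singleton_iff.2 h.symm)]
      exact orderOf_dvd_natCard _
    rw [hy, ← hk, ← hzz, card_conj', card_cz] at h1
    exact h1
  · exact ⟨k, hk⟩

/-- **6-transpositions** -/
theorem six {s s' : Gam} (hs : IsT s) (hs' : IsT s') : orderOf (s * s') ≤ 6 := by
  have A := Cfsg.Agent.MonsterU.Uncond.all
  obtain ⟨h, rfl⟩ := hs
  obtain ⟨k, rfl⟩ := hs'
  have h6 := MonsterX.MainPack.six A.hG A.hR A.hL A.hO A.hT InstanceFinal.mExtra.order_le (h⁻¹ * k)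
  have h7 : h * tt * h⁻¹ * (k * tt * k⁻¹) = h * (tG A.hG A.hR * ((h⁻¹ * k) * tG A.hG A.hR * (h⁻¹ * k)⁻¹)) * h⁻¹ := by
    show h * tG A.hG A.hR * h⁻¹ * (k * tG A.hG A.hR * k⁻¹) = _
    group
  rw [h7, orderOf_conj]
  exact h6

open Classical in
/-- the orders of the products -/
noncomputable def od (u : Fin 9) : ℕ :=
  if h : ∃ p : Gam × Gam, IsT p.1 ∧ IsT p.2 ∧ ka p.1 p.2 = u then orderOf (h.choose.1 * h.choose.2) else 0

theorem od_eq {s s' : Gam} (hs : IsT s) (hs' : IsT s') : orderOf (s * s') = od (ka s s') := by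
  have h : ∃ p : Gam × Gam, IsT p.1 ∧ IsT p.2 ∧ ka p.1 p.2 = ka s s' := ⟨(s, s'), hs, hs', rfl⟩
  unfold od
  rw [dif_pos h]
  obtain ⟨h1, h2, h3⟩ := h.choose_spec
  exact order_eq hs hs' h1 h2 h3.symm

/-- the lift of an involution of `C(y)/⟨y⟩` -/
theorem exists_lift {y : Gam} {r : ℕ} (hr : r.Prime) (hr2 : r ≠ 2) (hy : orderOf y = r) {a : XX y}
    (ha : orderOf a = 2) : ∃ (s : Gam) (h : s * y = y * s), orderOf s = 2 ∧ mk y h = a := by
  obtain ⟨g, hg, rfl⟩ := exists_mk a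
  have hpow : ∀ n : ℕ, g ^ n * y = y * g ^ n := fun n => ((show Commute g y from hg).pow_left n).eq
  have hmk : ∀ n : ℕ, mk y (hpow n) = mk y hg ^ n := fun n => rfl
  obtain ⟨i, hi⟩ := (mk_eq_one (hpow 2)).1 (by rw [hmk, ← ha, pow_orderOf_eq_one])
  have hodd : Odd r := hr.odd_of_ne_two hr2
  have h1 : (g ^ r) ^ 2 = 1 := by
    rw [← pow_mul, mul_comm, pow_mul, ← hi, ← zpow_natCast, ← zpow_mul, mul_comm, zpow_mul, zpow_natCast, ← hy,
      pow_orderOf_eq_one, one_zpow]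
  have h2 : mk y (hpow r) = mk y hg := by
    rw [hmk]
    obtain ⟨j, hj⟩ := hodd
    have h3 : mk y hg ^ 2 = 1 := by rw [← ha, pow_orderOf_eq_one]
    rw [hj, pow_succ, pow_mul, h3, one_pow, one_mul]
  have hF : Fact (Nat.Prime 2) := ⟨Nat.prime_two⟩
  refine ⟨g ^ r, hpow r, orderOf_eq_prime h1 ?_, h2⟩
  intro h3
  have h4 : mk y (hpow r) = 1 := (mk_eq_one (hpow r)).2 ⟨0, by rw [zpow_zero, h3]⟩
  rw [← h2, h4, orderOf_one] at ha
  norm_num at ha

/-- the order of the image of an element of small order -/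
theorem order_mk {y : Gam} {r : ℕ} (hr : r.Prime) (hr6 : 6 < r) (hy : orderOf y = r) {d : Gam} (hd : d * y = y * d)
    (hd6 : orderOf d ≤ 6) (hd0 : 0 < orderOf d) : orderOf (mk y hd) = orderOf d := by
  have hpow : ∀ n : ℕ, d ^ n * y = y * d ^ n := fun n => ((show Commute d y from hd).pow_left n).eq
  have hmk : ∀ n : ℕ, mk y (hpow n) = mk y hd ^ n := fun n => rfl
  apply Nat.dvd_antisymm
  · apply orderOf_dvd_of_pow_eq_one
    rw [← hmk, LThreeMB.mk_eq_one]
    exact ⟨0, by rw [zpow_zero, pow_orderOf_eq_one]⟩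
  · apply orderOf_dvd_of_pow_eq_one
    obtain ⟨i, hi⟩ := (mk_eq_one (hpow (orderOf (mk y hd)))).1 (by rw [hmk, pow_orderOf_eq_one])
    have h1 : orderOf (d ^ orderOf (mk y hd)) ∣ r := by
      apply orderOf_dvd_of_pow_eq_one
      rw [← hi, ← zpow_natCast, ← zpow_mul, mul_comm, zpow_mul, zpow_natCast, ← hy, pow_orderOf_eq_one, one_zpow]
    have h2 : orderOf (d ^ orderOf (mk y hd)) ∣ orderOf d := orderOf_pow_dvd _
    refine eq_one_of ?_ h1 h2
    rw [Nat.Prime.coprime_iff_not_dvd hr]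
    intro h3
    have := Nat.le_of_dvd hd0 h3
    omega

/-- **the products of two involutions of `C(y)/⟨y⟩`** -/
theorem products {y : Gam} {r : ℕ} (hr : r.Prime) (hr6 : 6 < r) (hz : ¬ r ∣ 2 ^ 25 * 4157776806543360000)
    (hy : orderOf y = r) {a b : XX y} (ha : orderOf a = 2) (hb : orderOf b = 2) :
    orderOf (a * b) ≤ 6 ∧ (a ≠ b → ∃ u : Fin 9, u ≠ 0 ∧ orderOf (a * b) = od u ∧
      97239461142009186000 * H816.MSch.k u * r ∣ 808017424794512875886459904961710757005754368000000000) := by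
  obtain ⟨s, hs, hs2, rfl⟩ := exists_lift hr (by omega) hy ha
  obtain ⟨s', hs', hs2', rfl⟩ := exists_lift hr (by omega) hy hb
  have h1 := isT hz hy hs2 hs
  have h1' := isT hz hy hs2' hs'
  have hc : (s * s') * y = y * (s * s') := ((show Commute s y from hs).mul_left (show Commute s' y from hs')).eq
  have h2 := six h1 h1'
  have h3 : mk y hs * mk y hs' = mk y hc := rfl
  rw [h3, order_mk hr hr6 hy hc h2 (orderOf_pos _)]
  refine ⟨h2, fun hne => ⟨ka s s', ka_ne h1 h1' ?_, od_eq h1 h1', ?_⟩⟩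
  · rintro rfl
    exact hne rfl
  · rw [← hy]
    exact dvd_card h1 h1' hs.symm hs'.symm

/-- an element of order 3 with `C(v) ∩ C(y) = ⟨v⟩⟨y⟩` -/
theorem exists_three' {r : ℕ} (hr : r.Prime) (hr3 : 3 ≠ r) (hr2 : ¬ r ^ 2 ∣ Nat.card Gam)
    (hth : ∃ y : Spor.Th, orderOf y = r ∧ ∀ g : Spor.Th, g * y = y * g → g ∈ zpowers y) {y : Gam}
    (hy : orderOf y = r) : ∃ v : Gam, orderOf v = 3 ∧ Self v y := by
  obtain ⟨v, hv, -, h⟩ := exists_th
  have hv' : orderOf (v : Gam) = 3 := by rw [Subgroup.orderOf_coe, hv]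
  obtain ⟨e⟩ := h
  obtain ⟨y0, hy0, hC⟩ := self_congr e hth
  obtain ⟨y1, hy1, hs⟩ := exists_self Nat.prime_three hr hr3 hv' hy0 hC
  obtain ⟨g, hg⟩ := exists_self_conj hr hr2 hs hy1 hy
  exact ⟨_, by rw [order_conj, hv'], hg⟩

/-- an element of order 5 with `C(w) ∩ C(y) = ⟨w⟩⟨y⟩` -/
theorem exists_five' {r : ℕ} (hr : r.Prime) (hr5 : 5 ≠ r) (hr2 : ¬ r ^ 2 ∣ Nat.card Gam)
    (hhn : ∃ y : Spor.HN, orderOf y = r ∧ ∀ g : Spor.HN, g * y = y * g → g ∈ zpowers y) {y : Gam}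
    (hy : orderOf y = r) : ∃ w : Gam, orderOf w = 5 ∧ Self w y := by
  obtain ⟨v, hv, -, h⟩ := exists_hn
  have hv' : orderOf (v : Gam) = 5 := by rw [Subgroup.orderOf_coe, hv]
  obtain ⟨e⟩ := h
  obtain ⟨y0, hy0, hC⟩ := self_congr e hhn
  obtain ⟨y1, hy1, hs⟩ := exists_self Nat.prime_five hr hr5 hv' hy0 hC
  obtain ⟨g, hg⟩ := exists_self_conj hr hr2 hs hy1 hy
  exact ⟨_, by rw [order_conj, hv'], hg⟩

theorem self_of_card {G : Type} [Group G] [Finite G] {r : ℕ} (hr : r.Prime) (hd : r ∣ Nat.card G)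
    (h : ∀ y : G, orderOf y = r → Nat.card (centralizer ({y} : Set G)) = r) :
    ∃ y : G, orderOf y = r ∧ ∀ g : G, g * y = y * g → g ∈ zpowers y := by
  have hF : Fact r.Prime := ⟨hr⟩
  obtain ⟨y, hy⟩ := exists_prime_orderOf_dvd_card' (G := G) r hd
  refine ⟨y, hy, fun g hg => ?_⟩
  have h2 : zpowers y = centralizer ({y} : Set G) := by
    refine Subgroup.eq_of_le_of_card_ge ?_ ?_
    · rw [zpowers_le, mem_centralizer_singleton_iff]
    · rw [h y hy, Nat.card_zpowers, hy]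
  rw [h2]
  exact mem_centralizer_singleton_iff.2 hg

theorem u31 : ∀ u : Fin 9, u ≠ 0 →
    97239461142009186000 * H816.MSch.k u * 31 ∣ 808017424794512875886459904961710757005754368000000000 → u = 4 := by
  decide +kernel

theorem u19 : ∀ u : Fin 9, u ≠ 0 →
    97239461142009186000 * H816.MSch.k u * 19 ∣ 808017424794512875886459904961710757005754368000000000 →
    u = 1 ∨ u = 4 ∨ u = 7 := by
  decide +kernel

/-- **Elements of order 31.** -/
theorem card31 (h3 : SThree.{0}) {y : Gam} (hy : orderOf y = 31) :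
    Nat.card (centralizer ({y} : Set Gam)) = 6 * 31 := by
  have h31 : Nat.Prime 31 := by norm_num
  have hz : ¬ 31 ∣ 2 ^ 25 * 4157776806543360000 := by norm_num
  have hsq : ¬ 31 ^ 2 ∣ Nat.card Gam := by rw [card_G]; norm_num
  have hF : Fact (Nat.Prime 31) := ⟨h31⟩
  have : Finite Spor.Th := Nat.finite_of_card_ne_zero (by rw [S1700.result.2]; norm_num)
  obtain ⟨v, hv, hvy⟩ := exists_three' h31 (by norm_num) hsq
    (self_of_card h31 (by rw [S1700.result.2]; norm_num) fun y hy => H491.PB.Th.card_thirtyone hy) hy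
  obtain ⟨k1, k2⟩ := hvy.quot Nat.prime_three h31 (by norm_num) hv hy
  have hcard := card_XX hy
  rw [hcard]
  congr 1
  have h4 : ¬ 4 ∣ Nat.card (XX y) := by
    intro h
    refine not_four h31 (by norm_num) hz (na_b h31 (by norm_num) (by norm_num) hz) hy ?_
    rw [hcard]
    exact h.mul_right _
  -- an involution
  have h2 : 2 ∣ Nat.card (XX y) := by
    obtain ⟨t, ht, -, hct, -⟩ := exists_cov
    obtain ⟨u0, hu0⟩ := exists_prime_orderOf_dvd_card' (G := centralizer ({t} : Set Gam)) 31 (by rw [hct]; norm_num)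
    have hu0' : orderOf (u0 : Gam) = 31 := by rw [Subgroup.orderOf_coe, hu0]
    obtain ⟨g, -, n, hn⟩ := H241.Mon.conj_of_not_sq h31 hsq hy hu0'
    have hn : (g * (u0 : Gam) * g⁻¹) ^ n = y := hn
    have h1 : Commute (g * t * g⁻¹) (g * (u0 : Gam) * g⁻¹) := by
      show g * t * g⁻¹ * (g * (u0 : Gam) * g⁻¹) = g * (u0 : Gam) * g⁻¹ * (g * t * g⁻¹)
      have h5 : (u0 : Gam) * t = t * u0 := mem_centralizer_singleton_iff.1 u0.2
      calc g * t * g⁻¹ * (g * (u0 : Gam) * g⁻¹) = g * (t * u0) * g⁻¹ := by group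
        _ = g * (u0 * t) * g⁻¹ := by rw [h5]
        _ = _ := by group
    have h5 : (g * t * g⁻¹) * y = y * (g * t * g⁻¹) := by
      rw [← hn]; exact (h1.zpow_right n).eq
    have h6 : orderOf (g * t * g⁻¹) = 2 := by rw [order_conj, ht]
    rw [← h6, ← order_mk h31 (by norm_num) hy h5 (by rw [h6]; norm_num) (by rw [h6]; norm_num)]
    exact orderOf_dvd_natCard _
  refine card_six h3 h4 h2 k1 k2 (fun a b ha hb => (products h31 (by norm_num) hz hy ha hb).1) (m := od 4) ?_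
  intro a b ha hb hab
  obtain ⟨u, hu0, hu, hud⟩ := (products h31 (by norm_num) hz hy ha hb).2 hab
  rw [hu, u31 u hu0 hud]

/-- **Elements of order 19.** -/
theorem card19 (h3 : SThree.{0}) {y : Gam} (hy : orderOf y = 19) :
    Nat.card (centralizer ({y} : Set Gam)) ≤ 60 * 19 := by
  have h19 : Nat.Prime 19 := by norm_num
  have hz : ¬ 19 ∣ 2 ^ 25 * 4157776806543360000 := by norm_num
  have hsq : ¬ 19 ^ 2 ∣ Nat.card Gam := by rw [card_G]; norm_num
  have : Finite Spor.Th := Nat.finite_of_card_ne_zero (by rw [S1700.result.2]; norm_num)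
  have : Finite Spor.HN := Nat.finite_of_card_ne_zero (by rw [S1701.result.2]; norm_num)
  obtain ⟨v, hv, hvy⟩ := exists_three' h19 (by norm_num) hsq
    (self_of_card h19 (by rw [S1700.result.2]; norm_num) fun y hy => H491.PB.Th.card_nineteen hy) hy
  obtain ⟨w, hw, hwy⟩ := exists_five' h19 (by norm_num) hsq
    (self_of_card h19 (by rw [S1701.result.2]; norm_num) fun y hy => H315.PwHN.card_nineteen hy) hy
  obtain ⟨k1, k2⟩ := hvy.quot Nat.prime_three h19 (by norm_num) hv hy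
  obtain ⟨k3, k4⟩ := hwy.quot Nat.prime_five h19 (by norm_num) hw hy
  rw [card_XX hy]
  apply Nat.mul_le_mul_right
  refine card_le h3 k1 k2 k3 k4 (l := [od 1, od 4, od 7]) (by simp) ?_
  intro a b ha hb hab
  obtain ⟨u, hu0, hu, hud⟩ := (products h19 (by norm_num) hz hy ha hb).2 hab
  rw [hu]
  rcases u19 u hu0 hud with rfl | rfl | rfl <;> simp

end Cfsg.Agent.H715.Mon.Cent
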