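import Cfsg.Agent.H816.MSch
import Cfsg.Agent.H444.FprM

/-!
# Colours of the pairs of `2A`-involutions of the Monster (helper715)

* `ax s` : the axis of an involution `s` conjugate to `t`;
* `order_eq` : pairs of involutions of the same colour have products of the same order;
* `dvd_card` : an element commuting with `s`, `s'` has order dividing `|M| / (|X| k)`.
-/

set_option autoImplicit false
set_option maxRecDepth 100000

namespace Cfsg.Agent.H715.Mon.Colour

open Cfsg Cfsg.Agent.MonsterX Cfsg.Agent.MonsterX.InstData Cfsg.Agent.MonsterX.MainPack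
open Cfsg.Agent.MonsterX.Model Cfsg.Agent.MonsterX.MainBasic
open Cfsg.Agent.H816.MSch Cfsg.Agent.H816.MEnt Cfsg.Agent.H816.IMEig
open Cfsg.Agent.H444.FprM (MG card_M)

/-- the involution of the base axis -/
noncomputable abbrev tt : MG := tG Cfsg.Agent.H816.MEnt.hG Cfsg.Agent.H816.MEnt.hR

/-- the conjugates of `t` -/
def IsT (s : MG) : Prop := ∃ h : MG, h * tt * h⁻¹ = s

theorem smul_b0 (g : MG) : g • b0 = b0 ↔ g * tt = tt * g := by
  have h := mem_cent_t_iff' hG hR hL hO hT g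
  rw [Subgroup.mem_centralizer_singleton_iff] at h
  rw [h]
  constructor
  · intro h1
    exact congrArg Subtype.val h1
  · intro h1
    exact Subtype.ext h1

theorem IsT.conj {s : MG} (h : IsT s) (g : MG) : IsT (g * s * g⁻¹) := by
  obtain ⟨k, rfl⟩ := h
  exact ⟨g * k, by group⟩

open Classical in
/-- the axis of an involution -/
noncomputable def ax (s : MG) : XT := if h : IsT s then h.choose • b0 else b0

theorem ax_eq (h : MG) : ax (h * tt * h⁻¹) = h • b0 := by
  have h0 : IsT (h * tt * h⁻¹) := ⟨h, rfl⟩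
  unfold ax
  rw [dif_pos h0]
  have h1 := h0.choose_spec
  set k := h0.choose
  have h2 : (h⁻¹ * k) • b0 = b0 := by
    rw [smul_b0]
    calc h⁻¹ * k * tt = h⁻¹ * (k * tt * k⁻¹) * k := by group
      _ = h⁻¹ * (h * tt * h⁻¹) * k := by rw [h1]
      _ = tt * (h⁻¹ * k) := by group
  calc k • b0 = h • ((h⁻¹ * k) • b0) := by rw [smul_smul]; congr 1; group
    _ = h • b0 := by rw [h2]

theorem ax_conj {s : MG} (hs : IsT s) (g : MG) : ax (g * s * g⁻¹) = g • ax s := by
  obtain ⟨h, rfl⟩ := hs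
  have h1 : g * (h * tt * h⁻¹) * g⁻¹ = (g * h) * tt * (g * h)⁻¹ := by group
  rw [h1, ax_eq, ax_eq, mul_smul]

theorem ax_inj {s s' : MG} (hs : IsT s) (hs' : IsT s') (h : ax s = ax s') : s = s' := by
  obtain ⟨k, rfl⟩ := hs
  obtain ⟨k', rfl⟩ := hs'
  rw [ax_eq, ax_eq] at h
  have h2 : (k'⁻¹ * k) • b0 = b0 := by rw [mul_smul, h, inv_smul_smul]
  rw [smul_b0] at h2
  calc k * tt * k⁻¹ = k' * (k'⁻¹ * k * tt) * k⁻¹ := by group
    _ = k' * (tt * (k'⁻¹ * k)) * k⁻¹ := by rw [h2]
    _ = k' * tt * k'⁻¹ := by group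

theorem smul_ax {s : MG} (hs : IsT s) {g : MG} (h : g * s = s * g) : g • ax s = ax s := by
  rw [← ax_conj hs, h, mul_inv_cancel_right]

/-- the colour of a pair of involutions -/
noncomputable def ka (s s' : MG) : Fin 9 := c (ax s) (ax s')

theorem ka_ne {s s' : MG} (hs : IsT s) (hs' : IsT s') (h : s ≠ s') : ka s s' ≠ 0 := by
  intro h1
  exact h (ax_inj hs hs' ((c_diag _ _).1 h1))

theorem orderOf_conj (g x : MG) : orderOf (g * x * g⁻¹) = orderOf x :=
  orderOf_injective (MulAut.conj g).toMonoidHom (MulAut.conj g).injective x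

/-- **Pairs of the same colour are conjugate.** -/
theorem order_eq {s₁ s₂ s₃ s₄ : MG} (h₁ : IsT s₁) (h₂ : IsT s₂) (h₃ : IsT s₃) (h₄ : IsT s₄)
    (h : ka s₁ s₂ = ka s₃ s₄) : orderOf (s₁ * s₂) = orderOf (s₃ * s₄) := by
  obtain ⟨g, hg1, hg2⟩ := c_tr _ _ _ _ h
  rw [← ax_conj h₁] at hg1
  rw [← ax_conj h₂] at hg2
  have e1 := ax_inj (h₁.conj g) h₃ hg1
  have e2 := ax_inj (h₂.conj g) h₄ hg2
  rw [← e1, ← e2, ← orderOf_conj g (s₁ * s₂)]
  congr 1
  group

/-- the number of pairs of a given colour -/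
theorem card_pairs (u : Fin 9) : Nat.card {p : XT × XT // c p.1 p.2 = u} = 97239461142009186000 * k u := by
  have e : {p : XT × XT // c p.1 p.2 = u} ≃ Σ x : XT, {y : XT // c x y = u} :=
    ⟨fun p => ⟨p.1.1, p.1.2, p.2⟩, fun p => ⟨(p.1, p.2.1), p.2.2⟩, fun _ => rfl, fun _ => rfl⟩
  have : Fintype XT := Fintype.ofFinite _
  rw [Nat.card_congr e, Nat.card_sigma]
  have h1 : ∀ x : XT, Nat.card {y : XT // c x y = u} = k u := by
    intro x
    have h2 := isCol.kk_eq x b0 u
    rw [kk_eq] at h2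
    exact h2
  rw [Finset.sum_congr rfl fun x _ => h1 x, Finset.sum_const, Finset.card_univ, ← Nat.card_eq_fintype_card, card_XT,
    smul_eq_mul]

/-- **The elements commuting with two involutions.** -/
theorem dvd_card {s s' y : MG} (hs : IsT s) (hs' : IsT s') (h : y * s = s * y) (h' : y * s' = s' * y) :
    97239461142009186000 * k (ka s s') * orderOf y ∣ 808017424794512875886459904961710757005754368000000000 := by
  have hf := Cfsg.Agent.H444.FprM.finite
  have h1 : Nat.card (MulAction.orbit MG (ax s, ax s')) = 97239461142009186000 * k (ka s s') := by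
    rw [← card_pairs]
    apply Nat.card_congr
    refine ⟨fun p => ⟨p.1, ?_⟩, fun p => ⟨p.1, ?_⟩, fun _ => rfl, fun _ => rfl⟩
    · obtain ⟨_, ⟨g, rfl⟩⟩ := p
      exact c_inv g _ _
    · obtain ⟨⟨a, b⟩, hab⟩ := p
      obtain ⟨g, hg1, hg2⟩ := c_tr (ax s) (ax s') a b hab.symm
      exact ⟨g, Prod.ext hg1 hg2⟩
  have h2 : y ∈ MulAction.stabilizer MG (ax s, ax s') :=
    Prod.ext (smul_ax hs h) (smul_ax hs' h')
  have h3 := Nat.card_congr (MulAction.orbitProdStabilizerEquivGroup MG (ax s, ax s'))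
  rw [Nat.card_prod, h1] at h3
  rw [← card_M, ← h3]
  apply Nat.mul_dvd_mul_left
  rw [← Subgroup.orderOf_mk y h2]
  exact orderOf_dvd_natCard _

end Cfsg.Agent.H715.Mon.Colour
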