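import Cfsg.Agent.H715.Mon.Grp
import Cfsg.Agent.Transfer.ThompsonTransfer
import Cfsg.Agent.H729.PairMB

/-!
# Groups with self-centralizing elements of order 3: exact orders (helper715)

* `iso_alt` : `v`, `w` of orders 3, 5 with `C(v) = ⟨v⟩`, `C(w) = ⟨w⟩`, the products of two involutions have at most three
  orders: `K ≅ A₅`;
* `card_168` : `v`, `w` of orders 3, 7 with `C(v) = ⟨v⟩`, `C(w) = ⟨w⟩`, `2 ∣ |K|`, the orders of products of involutions are
  at most 6: `|K| = 168`;
* `card_24` : `v` of order 3 with `C(v) = ⟨v⟩`, `z = [a, b]`, `|C(z)| ≤ 8`, `t` an involution not conjugate to `z`: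
  `|K| = 24`, `|C(t)| = 4`.
-/

set_option autoImplicit false
open Subgroup Cfsg
open scoped Pointwise

namespace Cfsg.Agent.H715.Mon.Grp

universe u

theorem cent_alt : ∀ a : alternatingGroup (Fin 5), a * a = 1 ∧ a ≠ 1 →
    Fintype.card {g : alternatingGroup (Fin 5) // g * a = a * g} = 4 := by
  decide +kernel

theorem card_alt_five : Nat.card (alternatingGroup (Fin 5)) = 60 := by
  have h5 : 2 * Nat.card (alternatingGroup (Fin 5)) = 2 * 60 := by
    rw [Nat.card_eq_fintype_card, two_mul_card_alternatingGroup, Fintype.card_perm, Fintype.card_fin]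
    rfl
  omega

theorem card_cent_alt {a : alternatingGroup (Fin 5)} (ha : orderOf a = 2) :
    Nat.card (centralizer ({a} : Set (alternatingGroup (Fin 5)))) = 4 := by
  have h1 : a * a = 1 := by rw [← pow_two, ← ha, pow_orderOf_eq_one]
  have h2 : a ≠ 1 := by
    rintro rfl
    rw [orderOf_one] at ha
    norm_num at ha
  rw [← cent_alt a ⟨h1, h2⟩, ← Nat.card_eq_fintype_card]
  exact Nat.card_congr (Equiv.subtypeEquivRight fun g => mem_centralizer_singleton_iff)

section

variable {K : Type u} [Group K] [Finite K]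

/-- **`K ≅ A₅`** -/
theorem iso_alt (h3 : SThree.{u}) {v w : K}
    (hv : orderOf v = 3) (hC : ∀ g : K, g * v = v * g → g ∈ zpowers v)
    (hw : orderOf w = 5) (hwC : ∀ g : K, g * w = w * g → g ∈ zpowers w)
    {l : List ℕ} (hl : l.length ≤ 3)
    (hm : ∀ a b : K, orderOf a = 2 → orderOf b = 2 → a ≠ b → orderOf (a * b) ∈ l) :
    Nonempty (K ≃* alternatingGroup (Fin 5)) := by
  have hle := card_le h3 hv hC hw hwC hl hm
  have hT : Nat.card (zpowers v) = 3 := by rw [Nat.card_zpowers, hv]
  rcases h3 K (zpowers v) hT (centralizer_eq hC) with ⟨N, hN, hnil, hcop, h36⟩ | ⟨N, hN, -, hsq, ⟨e⟩⟩ | ⟨⟨e⟩⟩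
  · exfalso
    have h6 : Nat.card (K ⧸ N) ∣ 6 := by
      rcases h36 with h | ⟨⟨e⟩⟩
      · rw [h]; norm_num
      · rw [Nat.card_congr e.toEquiv, Nat.card_eq_fintype_card, Fintype.card_perm, Fintype.card_fin]
        decide
    have hwN : w ∈ N := by
      rw [← QuotientGroup.eq_one_iff]
      refine eq_one_of (m := 5) (n := 6) (by norm_num) ?_ ?_
      · rw [← hw]; exact orderOf_map_dvd (QuotientGroup.mk' N) w
      · exact (_root_.orderOf_dvd_natCard _).trans h6
    have h7 := card_dvd_of_nilpotent hnil Nat.prime_five hw hwC hwN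
    have h8 : Nat.card N = 5 := by
      apply Nat.dvd_antisymm h7
      rw [← hw, ← Subgroup.orderOf_mk w hwN]
      exact orderOf_dvd_natCard _
    have h9 := Cfsg.Agent.H241.NH.comm_of_normal Nat.prime_three Nat.prime_five (by norm_num) hN h8 hv w hwN
    have h10 := order_of_mem_zpowers (hC _ h9)
    rw [hw, hv] at h10
    norm_num at h10
  · have h60 : N.index = 60 := by
      show Nat.card (K ⧸ N) = 60
      rw [Nat.card_congr e.toEquiv, card_alt_five]
    have hbot : N = ⊥ := by
      rw [← N.card_mul_index, h60] at hle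
      have h1 : 0 < Nat.card N := Nat.card_pos
      exact Subgroup.card_eq_one.1 (by omega)
    subst hbot
    exact ⟨QuotientGroup.quotientBot.symm.trans e⟩
  · exfalso
    have : Fact (Nat.Prime 7) := ⟨by norm_num⟩
    rw [Nat.card_congr e.toEquiv, Cfsg.Agent.SmallSimple.PSLFacts.card_psl_two_seven (ZMod.card 7)] at hle
    norm_num at hle

/-- **`|K| = 168`** -/
theorem card_168 (h3 : SThree.{u}) {v w : K}
    (hv : orderOf v = 3) (hC : ∀ g : K, g * v = v * g → g ∈ zpowers v)
    (hw : orderOf w = 7) (hwC : ∀ g : K, g * w = w * g → g ∈ zpowers w) (h2 : 2 ∣ Nat.card K)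
    (h6 : ∀ a b : K, orderOf a = 2 → orderOf b = 2 → orderOf (a * b) ≤ 6) :
    Nat.card K = 168 := by
  have hT : Nat.card (zpowers v) = 3 := by rw [Nat.card_zpowers, hv]
  have hF2 : Fact (Nat.Prime 2) := ⟨Nat.prime_two⟩
  rcases h3 K (zpowers v) hT (centralizer_eq hC) with ⟨N, hN, hnil, hcop, h36⟩ | ⟨N, hN, -, hsq, ⟨e⟩⟩ | ⟨⟨e⟩⟩
  · exfalso
    have hd6 : Nat.card (K ⧸ N) ∣ 6 := by
      rcases h36 with h | ⟨⟨e⟩⟩
      · rw [h]; norm_num
      · rw [Nat.card_congr e.toEquiv, Nat.card_eq_fintype_card, Fintype.card_perm, Fintype.card_fin]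
        decide
    have hwN : w ∈ N := by
      rw [← QuotientGroup.eq_one_iff]
      refine eq_one_of (m := 7) (n := 6) (by norm_num) ?_ ?_
      · rw [← hw]; exact orderOf_map_dvd (QuotientGroup.mk' N) w
      · exact (_root_.orderOf_dvd_natCard _).trans hd6
    have h7 := card_dvd_of_nilpotent hnil (by norm_num) hw hwC hwN
    have h8 : Nat.card N = 7 := by
      apply Nat.dvd_antisymm h7
      rw [← hw, ← Subgroup.orderOf_mk w hwN]
      exact orderOf_dvd_natCard _
    have hNw : N = zpowers w := by
      symm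
      refine Subgroup.eq_of_le_of_card_ge (by rw [zpowers_le]; exact hwN) ?_
      rw [h8, Nat.card_zpowers, hw]
    obtain ⟨s, hs⟩ := exists_prime_orderOf_dvd_card' (G := K) 2 h2
    have hss : s * s = 1 := by rw [← pow_two, ← hs, pow_orderOf_eq_one]
    have hinv : s * w * s⁻¹ = w⁻¹ := by
      refine H729.PairMB.inverts (by norm_num : Nat.Prime 7) hw hss ?_ ?_
      · rw [← hNw, Subgroup.normalizer_eq_top]
        exact mem_top _
      · intro h
        have h10 := order_of_mem_zpowers (hwC _ h)
        rw [hs, hw] at h10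
        norm_num at h10
    have h9 := mem_of_pair (l := [orderOf (s * (w * s * w⁻¹))]) (K := K) (x := s) (w := w)
    have hsi : s⁻¹ = s := inv_eq_of_mul_eq_one_left hss
    have h10 : s * (w * s * w⁻¹) = (w ^ 2)⁻¹ := by
      calc s * (w * s * w⁻¹) = s * w * s⁻¹ * w⁻¹ := by rw [hsi]; group
        _ = (w ^ 2)⁻¹ := by rw [hinv, pow_two, mul_inv_rev]
    have h11 : orderOf (s * (w * s * w⁻¹)) = 7 := by
      rw [h10, orderOf_inv, Nat.Coprime.orderOf_pow (by rw [hw]; norm_num), hw]
    have h12 := h6 s (w * s * w⁻¹) hs (orderOf_conj' w hs)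
    omega
  · exfalso
    have h60 : N.index = 60 := by
      show Nat.card (K ⧸ N) = 60
      rw [Nat.card_congr e.toEquiv, card_alt_five]
    have h7 : 7 ∣ Nat.card N * 60 := by
      rw [← h60, N.card_mul_index, ← hw]
      exact orderOf_dvd_natCard w
    have hF7 : Fact (Nat.Prime 7) := ⟨by norm_num⟩
    rcases (Nat.Prime.dvd_mul (by norm_num)).1 h7 with h | h
    · obtain ⟨n, hn⟩ := exists_prime_orderOf_dvd_card' 7 h
      have h1 : orderOf (n : K) ∣ 2 := orderOf_dvd_of_pow_eq_one (hsq n n.2)
      rw [Subgroup.orderOf_coe, hn] at h1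
      norm_num at h1
    · norm_num at h
  · have : Fact (Nat.Prime 7) := ⟨by norm_num⟩
    rw [Nat.card_congr e.toEquiv, Cfsg.Agent.SmallSimple.PSLFacts.card_psl_two_seven (ZMod.card 7)]

/-- the centre of a nonabelian group has index at least 4 -/
theorem four_le_index {D : Type*} [Group D] [Finite D] {a b : D} (hab : a * b ≠ b * a) : 4 ≤ (center D).index := by
  by_contra hlt
  push Not at hlt
  have hi : 0 < (center D).index := Nat.pos_of_ne_zero index_ne_zero_of_finite
  have hc : IsCyclic (D ⧸ center D) := by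
    have h1 : Nat.card (D ⧸ center D) = (center D).index := rfl
    have hF2 : Fact (Nat.Prime 2) := ⟨Nat.prime_two⟩
    have hF3 : Fact (Nat.Prime 3) := ⟨Nat.prime_three⟩
    have h2 : (center D).index = 1 ∨ (center D).index = 2 ∨ (center D).index = 3 := by omega
    rcases h2 with h | h | h
    · exact isCyclic_of_card_dvd_prime (p := 2) (by rw [h1, h]; norm_num)
    · exact isCyclic_of_card_dvd_prime (p := 2) (by rw [h1, h])
    · exact isCyclic_of_card_dvd_prime (p := 3) (by rw [h1, h])
  exact hab (commutative_of_cyclic_center_quotient (QuotientGroup.mk' (center D)) (by rw [QuotientGroup.ker_mk']) a b)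

/-- the set up of `card_24` -/
structure Oct (K : Type u) [Group K] [Finite K] (z : K) : Prop where
  zo : orderOf z = 2
  card : Nat.card (centralizer ({z} : Set K)) = 8
  cen : ∀ c : K, c * z = z * c → (∀ d : K, d * z = z * d → c * d = d * c) → c ≠ 1 → c = z
  na : ∃ a b : K, a * z = z * a ∧ b * z = z * b ∧ a * b ≠ b * a

theorem oct {z a b : K} (hz : orderOf z = 2) (h8 : Nat.card (centralizer ({z} : Set K)) ≤ 8)
    (ha : a * z = z * a) (hb : b * z = z * b) (hab : a * b ≠ b * a) : Oct K z := by
  have h1 := four_le_index (D := centralizer ({z} : Set K)) (a := ⟨a, mem_centralizer_singleton_iff.2 ha⟩)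
    (b := ⟨b, mem_centralizer_singleton_iff.2 hb⟩) (fun h => hab (congrArg Subtype.val h))
  have hzD : z ∈ centralizer ({z} : Set K) := mem_centralizer_singleton_iff.2 rfl
  have hzc : (⟨z, hzD⟩ : centralizer ({z} : Set K)) ∈ center (centralizer ({z} : Set K)) := by
    rw [mem_center_iff]
    intro g
    exact Subtype.ext (mem_centralizer_singleton_iff.1 g.2)
  have h2 : 2 ∣ Nat.card (center (centralizer ({z} : Set K))) := by
    rw [← hz, ← Subgroup.orderOf_mk z hzD, ← Subgroup.orderOf_mk _ hzc]
    exact orderOf_dvd_natCard _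
  have h3 := (center (centralizer ({z} : Set K))).card_mul_index
  have h4 : Nat.card (center (centralizer ({z} : Set K))) = 2 := by
    obtain ⟨k, hk⟩ := h2
    have h5 : 0 < Nat.card (center (centralizer ({z} : Set K))) := Nat.card_pos
    have h6 : k < 2 := by
      by_contra hk2
      push Not at hk2
      have : 4 * 4 ≤ Nat.card (center (centralizer ({z} : Set K))) * (center (centralizer ({z} : Set K))).index :=
        Nat.mul_le_mul (by omega) h1
      omega
    omega
  refine ⟨hz, ?_, ?_, ⟨a, b, ha, hb, hab⟩⟩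
  · rw [h4] at h3
    omega
  · intro c hc hcd hc1
    have h5 : (⟨c, mem_centralizer_singleton_iff.2 hc⟩ : centralizer ({z} : Set K)) ∈
        center (centralizer ({z} : Set K)) := by
      rw [mem_center_iff]
      intro g
      exact Subtype.ext (hcd g (mem_centralizer_singleton_iff.1 g.2)).symm
    by_contra hne
    have h6 : ({1, ⟨⟨z, hzD⟩, hzc⟩, ⟨_, h5⟩} : Set (center (centralizer ({z} : Set K)))).ncard = 3 := by
      rw [Set.ncard_eq_three]
      refine ⟨_, _, _, ?_, ?_, ?_, rfl⟩
      · intro h
        have h7 : (1 : K) = z := congrArg (fun v : center (centralizer ({z} : Set K)) => ((v : centralizer ({z} : Set K)) : K)) h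
        rw [← h7, orderOf_one] at hz
        norm_num at hz
      · intro h
        exact hc1 (congrArg (fun v : center (centralizer ({z} : Set K)) => ((v : centralizer ({z} : Set K)) : K)) h).symm
      · intro h
        exact hne (congrArg (fun v : center (centralizer ({z} : Set K)) => ((v : centralizer ({z} : Set K)) : K)) h).symm
    have h7 := Set.ncard_le_card ({1, ⟨⟨z, hzD⟩, hzc⟩, ⟨_, h5⟩} : Set (center (centralizer ({z} : Set K))))
    omega

section

variable {z : K} (O : Oct K z)

include O

theorem Oct.mul_self : z * z = 1 := by rw [← pow_two, ← O.zo, pow_orderOf_eq_one]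

theorem Oct.ne_one : z ≠ 1 := by
  intro h
  have h1 := O.zo
  rw [h, orderOf_one] at h1
  norm_num at h1

/-- the normalizer of the centralizer -/
theorem Oct.comm_of_norm {g : K} (hg : ∀ d : K, d * z = z * d → (g⁻¹ * d * g) * z = z * (g⁻¹ * d * g)) :
    g * z = z * g := by
  have hz' : (g * z * g⁻¹) * z = z * (g * z * g⁻¹) := by
    have h1 := hg z rfl
    calc (g * z * g⁻¹) * z = g * (z * (g⁻¹ * z * g)) * g⁻¹ := by group
      _ = g * ((g⁻¹ * z * g) * z) * g⁻¹ := by rw [h1]
      _ = z * (g * z * g⁻¹) := by group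
  have h2 := O.cen (g * z * g⁻¹) hz' (fun d hd => by
    have h3 := hg d hd
    calc (g * z * g⁻¹) * d = g * (z * (g⁻¹ * d * g)) * g⁻¹ := by group
      _ = g * ((g⁻¹ * d * g) * z) * g⁻¹ := by rw [h3]
      _ = d * (g * z * g⁻¹) := by group) (fun h => O.ne_one (by
        calc z = g⁻¹ * (g * z * g⁻¹) * g := by group
          _ = 1 := by rw [h]; group))
  exact mul_inv_eq_iff_eq_mul.1 h2

theorem Oct.isPGroup : IsPGroup 2 (centralizer ({z} : Set K)) := IsPGroup.of_card (n := 3) (by rw [O.card]; norm_num)

/-- the centralizer is a Sylow subgroup -/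
theorem Oct.sylow [Fact (Nat.Prime 2)] (P : Sylow 2 K) (hP : centralizer ({z} : Set K) ≤ P) :
    (P : Subgroup K) = centralizer ({z} : Set K) := by
  by_contra hne
  have hlt : (centralizer ({z} : Set K)).subgroupOf P < ⊤ := by
    rw [lt_top_iff_ne_top]
    intro h
    exact hne (le_antisymm (subgroupOf_eq_top.1 h) hP)
  have hnil : Group.IsNilpotent (P : Subgroup K) := P.2.isNilpotent
  have hcond : NormalizerCondition (P : Subgroup K) := Group.normalizerCondition_of_isNilpotent
  obtain ⟨g, hg1, hg2⟩ := SetLike.exists_of_lt (hcond _ hlt)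
  apply hg2
  rw [mem_subgroupOf, mem_centralizer_singleton_iff]
  refine O.comm_of_norm fun d hd => ?_
  have hdP : d ∈ (P : Subgroup K) := hP (mem_centralizer_singleton_iff.2 hd)
  have h1 := (mem_normalizer_iff.1 (Subgroup.inv_mem _ hg1) ⟨d, hdP⟩).1 (mem_subgroupOf.2
    (mem_centralizer_singleton_iff.2 hd))
  rw [mem_subgroupOf, mem_centralizer_singleton_iff] at h1
  have h2 : (((g⁻¹ * (⟨d, hdP⟩ : (P : Subgroup K)) * g⁻¹⁻¹ : (P : Subgroup K))) : K) = (g : K)⁻¹ * d * g := by
    rw [inv_inv]; rfl
  rwa [h2] at h1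

theorem Oct.dvd : 8 ∣ Nat.card K ∧ ¬ 16 ∣ Nat.card K := by
  have hF2 : Fact (Nat.Prime 2) := ⟨Nat.prime_two⟩
  constructor
  · rw [← O.card]
    exact card_subgroup_dvd_card _
  · intro h
    obtain ⟨P, hP⟩ := O.isPGroup.exists_le_sylow
    have h1 := P.pow_dvd_card_of_pow_dvd_card (n := 4) (by norm_num; exact h)
    have h2 : Nat.card P = 8 := by
      have h3 : Nat.card (P : Subgroup K) = 8 := by rw [O.sylow P hP, O.card]
      exact h3
    rw [h2] at h1
    norm_num at h1

/-- conjugates of the elements of order 2 -/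
theorem Oct.exists_conj {s : K} (hs : orderOf s = 2) : ∃ g : K, (g * s * g⁻¹) * z = z * (g * s * g⁻¹) := by
  have hF2 : Fact (Nat.Prime 2) := ⟨Nat.prime_two⟩
  obtain ⟨P, hP⟩ := O.isPGroup.exists_le_sylow
  have hsp : IsPGroup 2 (zpowers s) := IsPGroup.of_card (n := 1) (by rw [Nat.card_zpowers, hs, pow_one])
  obtain ⟨R, hR⟩ := hsp.exists_le_sylow
  obtain ⟨g, hg⟩ := MulAction.exists_smul_eq K R P
  refine ⟨g, ?_⟩
  rw [← mem_centralizer_singleton_iff, ← O.sylow P hP, ← hg]
  exact Subgroup.smul_mem_pointwise_smul s (MulAut.conj g) _ (hR (mem_zpowers s))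

/-- the centralizers of the involutions not conjugate to `z` -/
theorem Oct.card_cent {v t : K} (h24 : Nat.card K = 24) (hv : orderOf v = 3)
    (hC : ∀ g : K, g * v = v * g → g ∈ zpowers v) (ht : orderOf t = 2) (hzt : ∀ g : K, g * z * g⁻¹ ≠ t) :
    Nat.card (centralizer ({t} : Set K)) = 4 := by
  have hF2 : Fact (Nat.Prime 2) := ⟨Nat.prime_two⟩
  have hF3 : Fact (Nat.Prime 3) := ⟨Nat.prime_three⟩
  have hd := card_subgroup_dvd_card (centralizer ({t} : Set K))
  rw [h24] at hd
  have htt : t * t = 1 := by rw [← pow_two, ← ht, pow_orderOf_eq_one]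
  -- no elements of order 3
  have h3 : ¬ 3 ∣ Nat.card (centralizer ({t} : Set K)) := by
    intro h
    obtain ⟨u, hu⟩ := exists_prime_orderOf_dvd_card' 3 h
    have hu' : orderOf (u : K) = 3 := by rw [Subgroup.orderOf_coe, hu]
    obtain ⟨g, -, i, hi⟩ := conj_of_not_sq Nat.prime_three (by rw [h24]; norm_num) hv hu'
    have hi : (g * (u : K) * g⁻¹) ^ i = v := hi
    have h1 : Commute (g * t * g⁻¹) (g * (u : K) * g⁻¹) := by
      show g * t * g⁻¹ * (g * (u : K) * g⁻¹) = g * (u : K) * g⁻¹ * (g * t * g⁻¹)
      have h5 : (u : K) * t = t * u := mem_centralizer_singleton_iff.1 u.2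
      calc g * t * g⁻¹ * (g * (u : K) * g⁻¹) = g * (t * u) * g⁻¹ := by group
        _ = g * (u * t) * g⁻¹ := by rw [h5]
        _ = _ := by group
    have h2 : (g * t * g⁻¹) * v = v * (g * t * g⁻¹) := by rw [← hi]; exact (h1.zpow_right i).eq
    have h4 := order_of_mem_zpowers (hC _ h2)
    rw [orderOf_conj' g ht, hv] at h4
    norm_num at h4
  obtain ⟨g, hg⟩ := O.exists_conj ht
  -- 4 divides the order
  have h4 : 4 ∣ Nat.card (centralizer ({t} : Set K)) := by
    have hne : g⁻¹ * z * g ≠ t := by
      have := hzt g⁻¹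
      rwa [inv_inv] at this
    have hcomm : (g⁻¹ * z * g) * t = t * (g⁻¹ * z * g) := by
      calc (g⁻¹ * z * g) * t = g⁻¹ * (z * (g * t * g⁻¹)) * g := by group
        _ = g⁻¹ * ((g * t * g⁻¹) * z) * g := by rw [hg]
        _ = t * (g⁻¹ * z * g) := by group
    have hzz : (g⁻¹ * z * g) * (g⁻¹ * z * g) = 1 := by
      calc (g⁻¹ * z * g) * (g⁻¹ * z * g) = g⁻¹ * (z * z) * g := by group
        _ = 1 := by rw [O.mul_self]; group
    have hz1 : g⁻¹ * z * g ≠ 1 := fun h => O.ne_one (by
      calc z = g * (g⁻¹ * z * g) * g⁻¹ := by group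
        _ = 1 := by rw [h]; group)
    set w := g⁻¹ * z * g
    have ht1 : t ≠ 1 := by
      rintro rfl
      rw [orderOf_one] at ht
      norm_num at ht
    -- the order is even and greater than 2
    have h5 : 2 ∣ Nat.card (centralizer ({t} : Set K)) := by
      rw [← ht, ← Subgroup.orderOf_mk t (mem_centralizer_singleton_iff.2 rfl)]
      exact orderOf_dvd_natCard _
    have h6 : ({1, t, w} : Set K).ncard = 3 :=
      Set.ncard_eq_three.2 ⟨1, t, w, ht1.symm, hz1.symm, fun h => hne h.symm, rfl⟩
    have h7 : ({1, t, w} : Set K) ⊆ (centralizer ({t} : Set K) : Set K) := by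
      intro k hk
      rcases hk with rfl | rfl | hk
      · exact one_mem _
      · exact mem_centralizer_singleton_iff.2 rfl
      · rw [Set.mem_singleton_iff.1 hk]
        exact mem_centralizer_singleton_iff.2 hcomm
    have h8 := Set.ncard_le_ncard h7 (Set.toFinite _)
    have h9 : Nat.card (centralizer ({t} : Set K)) = (centralizer ({t} : Set K) : Set K).ncard := Nat.card_coe_set_eq _
    have h10 : 3 ≤ Nat.card (centralizer ({t} : Set K)) := by omega
    have h11 : Nat.card (centralizer ({t} : Set K)) ≤ 24 := Nat.le_of_dvd (by norm_num) hd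
    generalize Nat.card (centralizer ({t} : Set K)) = c at *
    interval_cases c <;> omega
  -- 8 does not divide the order
  have h8 : ¬ 8 ∣ Nat.card (centralizer ({t} : Set K)) := by
    intro h
    have h5 : Nat.card (centralizer ({t} : Set K)) = 8 := by
      have h11 : Nat.card (centralizer ({t} : Set K)) ≤ 24 := Nat.le_of_dvd (by norm_num) hd
      generalize Nat.card (centralizer ({t} : Set K)) = c at *
      interval_cases c <;> omega
    have hp : IsPGroup 2 (centralizer ({t} : Set K)) := IsPGroup.of_card (n := 3) (by rw [h5]; norm_num)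
    obtain ⟨P, hP⟩ := O.isPGroup.exists_le_sylow
    obtain ⟨R, hR⟩ := hp.exists_le_sylow
    obtain ⟨k, hk⟩ := MulAction.exists_smul_eq K R P
    have h6 : Nat.card (R : Subgroup K) = 8 := by
      have h7 : Nat.card (P : Subgroup K) = 8 := by rw [O.sylow P hP, O.card]
      have h9 := Nat.card_congr (R.equiv P).toEquiv
      exact h9.trans h7
    have h7 : (R : Subgroup K) = centralizer ({t} : Set K) := by
      symm
      refine Subgroup.eq_of_le_of_card_ge hR ?_
      rw [h6, h5]
    have hmem : ∀ d : K, d * z = z * d → (k⁻¹ * d * k) * t = t * (k⁻¹ * d * k) := by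
      intro d hd'
      rw [← mem_centralizer_singleton_iff, ← O.sylow P hP, ← hk] at hd'
      have h9 : d ∈ MulAut.conj k • (R : Subgroup K) := hd'
      rw [Subgroup.mem_pointwise_smul_iff_inv_smul_mem] at h9
      have h10 : (MulAut.conj k)⁻¹ • d = k⁻¹ * d * k := by
        simp
      rw [h10, h7, mem_centralizer_singleton_iff] at h9
      exact h9
    have htz : (k * t * k⁻¹) * z = z * (k * t * k⁻¹) := by
      have h9 := hmem z rfl
      calc (k * t * k⁻¹) * z = k * (t * (k⁻¹ * z * k)) * k⁻¹ := by group
        _ = k * ((k⁻¹ * z * k) * t) * k⁻¹ := by rw [h9]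
        _ = z * (k * t * k⁻¹) := by group
    have h9 := O.cen (k * t * k⁻¹) htz (fun d hd' => by
      have h10 := hmem d hd'
      calc (k * t * k⁻¹) * d = k * (t * (k⁻¹ * d * k)) * k⁻¹ := by group
        _ = k * ((k⁻¹ * d * k) * t) * k⁻¹ := by rw [h10]
        _ = d * (k * t * k⁻¹) := by group) (fun h => by
          have h10 : t = 1 := by
            calc t = k⁻¹ * (k * t * k⁻¹) * k := by group
              _ = 1 := by rw [h]; group
          rw [h10, orderOf_one] at ht
          norm_num at ht)
    apply hzt k⁻¹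
    rw [← h9]
    group
  have h11 : Nat.card (centralizer ({t} : Set K)) ≤ 24 := Nat.le_of_dvd (by norm_num) hd
  generalize Nat.card (centralizer ({t} : Set K)) = c at *
  interval_cases c <;> omega

end

/-- the Sylow subgroups of a normal nilpotent subgroup -/
theorem exists_sylow {N : Subgroup K} (hN : N.Normal) (hnil : Group.IsNilpotent N) {q : ℕ} (hq : q.Prime) :
    ∃ X : Subgroup K, X.Normal ∧ X ≤ N ∧ (∃ k, Nat.card X = q ^ k) ∧ ∀ k, q ^ k ∣ Nat.card N → q ^ k ∣ Nat.card X := by
  have hFq : Fact q.Prime := ⟨hq⟩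
  obtain ⟨P⟩ : Nonempty (Sylow q N) := inferInstance
  have hPn : (P : Subgroup N).Normal := by
    have h4 : NormalizerCondition N := Group.normalizerCondition_of_isNilpotent
    exact Sylow.normal_of_normalizerCondition h4 P
  have hPc : (P : Subgroup N).Characteristic := P.characteristic_of_normal hPn
  have hPK : ((P : Subgroup N).map N.subtype).Normal := ConjAct.normal_of_characteristic_of_normal
  have hc : Nat.card ((P : Subgroup N).map N.subtype) = Nat.card (P : Subgroup N) :=
    Subgroup.card_map_of_injective N.subtype_injective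
  refine ⟨_, hPK, map_subtype_le _, ?_, ?_⟩
  · rw [hc]
    exact IsPGroup.iff_card.1 P.2
  · intro k hk
    rw [hc]
    exact P.pow_dvd_card_of_pow_dvd_card hk

/-- the index of the centre of the centralizer -/
theorem Oct.index {z : K} (O : Oct K z) : (center (centralizer ({z} : Set K))).index = 4 := by
  obtain ⟨a, b, ha, hb, hab⟩ := O.na
  have h1 := four_le_index (D := centralizer ({z} : Set K)) (a := ⟨a, mem_centralizer_singleton_iff.2 ha⟩)
    (b := ⟨b, mem_centralizer_singleton_iff.2 hb⟩) (fun h => hab (congrArg Subtype.val h))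
  have hzD : z ∈ centralizer ({z} : Set K) := mem_centralizer_singleton_iff.2 rfl
  have hzc : (⟨z, hzD⟩ : centralizer ({z} : Set K)) ∈ center (centralizer ({z} : Set K)) := by
    rw [mem_center_iff]
    intro g
    exact Subtype.ext (mem_centralizer_singleton_iff.1 g.2)
  have h2 : 2 ∣ Nat.card (center (centralizer ({z} : Set K))) := by
    rw [← O.zo, ← Subgroup.orderOf_mk z hzD, ← Subgroup.orderOf_mk _ hzc]
    exact orderOf_dvd_natCard _
  have h3 := (center (centralizer ({z} : Set K))).card_mul_index
  rw [O.card] at h3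
  obtain ⟨k, hk⟩ := h2
  rw [hk] at h3
  generalize (center (centralizer ({z} : Set K))).index = m at *
  have hk1 : 0 < k := by
    rcases Nat.eq_zero_or_pos k with h | h
    · rw [h] at h3; omega
    · exact h
  have h5 : k * m = 4 := by
    have : 2 * (k * m) = 8 := by rw [← h3]; ring
    omega
  have h6 : k < 2 := by
    by_contra hk2
    push Not at hk2
    have : 2 * 4 ≤ k * m := Nat.mul_le_mul hk2 h1
    omega
  have h7 : k = 1 := by omega
  rw [h7, one_mul] at h5
  exact h5

/-- the squares of the elements of the centralizer -/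
theorem Oct.sq {z : K} (O : Oct K z) {c : K} (hc : c * z = z * c) (h1 : c * c ≠ 1) : c * c = z := by
  obtain ⟨a, b, ha, hb, hab⟩ := O.na
  have hcD : c ∈ centralizer ({z} : Set K) := mem_centralizer_singleton_iff.2 hc
  set D := centralizer ({z} : Set K)
  have h2 : Nat.card (D ⧸ center D) = 4 := O.index
  set c' : D ⧸ center D := QuotientGroup.mk' (center D) ⟨c, hcD⟩ with hc'
  have h3 : c' ^ 2 = 1 := by
    have h4 : orderOf c' ∣ 4 := by rw [← h2]; exact orderOf_dvd_natCard _
    have h5 : orderOf c' ≠ 4 := by
      intro h5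
      have hcyc : IsCyclic (D ⧸ center D) := isCyclic_of_orderOf_eq_card c' (by rw [h5, h2])
      exact hab (congrArg Subtype.val (commutative_of_cyclic_center_quotient (QuotientGroup.mk' (center D))
        (by rw [QuotientGroup.ker_mk']) ⟨a, mem_centralizer_singleton_iff.2 ha⟩
        ⟨b, mem_centralizer_singleton_iff.2 hb⟩))
    have h6 : orderOf c' ≤ 4 := Nat.le_of_dvd (by norm_num) h4
    have h7 : 0 < orderOf c' := orderOf_pos c'
    have h8 : orderOf c' ∣ 2 := by
      generalize orderOf c' = m at *
      interval_cases m <;> omega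
    exact orderOf_dvd_iff_pow_eq_one.1 h8
  have h4 : (⟨c, hcD⟩ : D) ^ 2 ∈ center D := by
    rw [← QuotientGroup.eq_one_iff]
    exact h3
  refine O.cen _ ?_ ?_ h1
  · have : Commute c z := hc
    exact (this.mul_left this).eq
  · intro d hd
    have h5 := mem_center_iff.1 h4 ⟨d, mem_centralizer_singleton_iff.2 hd⟩
    have h6 : d * c ^ 2 = c ^ 2 * d := congrArg Subtype.val h5
    rw [pow_two] at h6
    exact h6.symm

/-- **`|K| = 24`** -/
theorem card_24 (h3 : SThree.{u}) {z : K} (O : Oct K z) {v t : K}
    (hv : orderOf v = 3) (hC : ∀ g : K, g * v = v * g → g ∈ zpowers v)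
    (ht : orderOf t = 2) (hzt : ∀ g : K, g * z * g⁻¹ ≠ t) : Nat.card K = 24 := by
  have hT : Nat.card (zpowers v) = 3 := by rw [Nat.card_zpowers, hv]
  have hF2 : Fact (Nat.Prime 2) := ⟨Nat.prime_two⟩
  obtain ⟨h8, h16⟩ := O.dvd
  obtain ⟨P, hP⟩ := O.isPGroup.exists_le_sylow
  have hPz := O.sylow P hP
  have hPc : Nat.card (P : Subgroup K) = 8 := by rw [hPz, O.card]
  -- a normal `2`-subgroup is contained in the centralizer
  have hle : ∀ X : Subgroup K, X.Normal → (∃ k, Nat.card X = 2 ^ k) → X ≤ centralizer ({z} : Set K) := by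
    rintro X hX ⟨k, hk⟩
    have h1 : IsPGroup 2 X := IsPGroup.of_card hk
    obtain ⟨R, hR⟩ := h1.exists_le_sylow
    obtain ⟨g, hg⟩ := MulAction.exists_smul_eq K R P
    intro x hx
    rw [← hPz, ← hg]
    have h2 : x ∈ MulAut.conj g • (R : Subgroup K) := by
      rw [Subgroup.mem_pointwise_smul_iff_inv_smul_mem]
      have h3 : (MulAut.conj g)⁻¹ • x = g⁻¹ * x * g⁻¹⁻¹ := by simp
      rw [h3]
      exact hR (hX.conj_mem x hx g⁻¹)
    exact h2
  have hvz : ¬ v * z = z * v := by
    intro h
    have h1 := order_of_mem_zpowers (hC z h.symm)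
    rw [O.zo, hv] at h1
    norm_num at h1
  rcases h3 K (zpowers v) hT (centralizer_eq hC) with ⟨N, hN, hnil, hcop, h36⟩ | ⟨N, hN, -, hsq, ⟨e⟩⟩ | ⟨⟨e⟩⟩
  · obtain ⟨X, hX, hXN, hXk, hXd⟩ := exists_sylow hN hnil Nat.prime_two
    have hXD := hle X hX hXk
    rcases h36 with h | ⟨⟨e⟩⟩
    · exfalso
      have h1 : N.index = 3 := h
      have h2 : 8 ∣ Nat.card N := by
        rw [← N.card_mul_index, h1] at h8
        exact Nat.Coprime.dvd_of_dvd_mul_right (by norm_num) h8
      have h4 := hXd 3 (by norm_num; exact h2)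
      have h5 : X = centralizer ({z} : Set K) := by
        refine Subgroup.eq_of_le_of_card_ge hXD ?_
        rw [O.card]
        exact Nat.le_of_dvd Nat.card_pos (by norm_num at h4; exact h4)
      apply hvz
      refine O.comm_of_norm fun d hd => ?_
      rw [← mem_centralizer_singleton_iff, ← h5] at hd ⊢
      have h6 := hX.conj_mem d hd v⁻¹
      rwa [inv_inv] at h6
    · have h1 : N.index = 6 := by
        show Nat.card (K ⧸ N) = 6
        rw [Nat.card_congr e.toEquiv, Nat.card_eq_fintype_card, Fintype.card_perm, Fintype.card_fin]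
        decide
      have h2 := N.card_mul_index
      rw [h1] at h2
      have h4 : 4 ∣ Nat.card N := by
        rw [← h2] at h8
        omega
      have h5 : ¬ 8 ∣ Nat.card N := by
        intro h5
        apply h16
        rw [← h2]
        omega
      have h6 := hXd 2 (by norm_num; exact h4)
      norm_num at h6
      have h7 : Nat.card X = 4 := by
        obtain ⟨k, hk⟩ := hXk
        have h8 : k < 3 := by
          by_contra hk3
          apply h5
          have h9 : 2 ^ 3 ∣ Nat.card X := by rw [hk]; exact pow_dvd_pow 2 (by omega)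
          exact (show (8 : ℕ) ∣ Nat.card X by norm_num at h9; exact h9).trans (card_dvd_of_le hXN)
        interval_cases k
        · rw [hk] at h6; norm_num at h6
        · rw [hk] at h6; norm_num at h6
        · rw [hk]; norm_num
      -- `X` is abelian
      have hXc : ∀ x ∈ X, ∀ y ∈ X, x * y = y * x := by
        intro x hx y hy
        have h10 := IsPGroup.commutative_of_card_eq_prime_sq (p := 2) (G := X) (by rw [h7]; norm_num) ⟨x, hx⟩ ⟨y, hy⟩
        exact congrArg Subtype.val h10
      have hzX : z ∈ X := by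
        by_contra hzX
        -- `X` and `z` generate an abelian group of order at least 8
        let Y : Subgroup K := X ⊔ zpowers z
        have hYle : Y ≤ centralizer ({z} : Set K) := by
          refine sup_le hXD ?_
          rw [zpowers_le]
          exact mem_centralizer_singleton_iff.2 rfl
        have hlt : X < Y := by
          refine lt_of_le_of_ne le_sup_left fun h => hzX ?_
          rw [h]
          exact (le_sup_right : zpowers z ≤ Y) (mem_zpowers z)
        have hYc : Nat.card Y = 8 := by
          have h10 : Nat.card Y ∣ 8 := by rw [← O.card]; exact card_dvd_of_le hYle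
          have h11 : 4 ∣ Nat.card Y := by rw [← h7]; exact card_dvd_of_le hlt.le
          have h12 : Nat.card Y ≠ 4 := by
            intro h12
            exact hlt.ne (Subgroup.eq_of_le_of_card_ge hlt.le (by rw [h12, h7]))
          have h13 : Nat.card Y ≤ 8 := Nat.le_of_dvd (by norm_num) h10
          generalize Nat.card Y = m at *
          interval_cases m <;> omega
        have hYeq : Y = centralizer ({z} : Set K) := Subgroup.eq_of_le_of_card_ge hYle (by rw [hYc, O.card])
        obtain ⟨a, b, ha, hb, hab⟩ := O.na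
        apply hab
        have hYab : ∀ x ∈ Y, ∀ y ∈ Y, x * y = y * x := by
          have h10 : Y ≤ centralizer (Y : Set K) := by
            have hXX : X ≤ centralizer (X : Set K) := fun x hx => mem_centralizer_iff.2 fun y hy => hXc y hy x hx
            have hXz : X ≤ centralizer ((zpowers z : Subgroup K) : Set K) := by
              intro x hx
              rw [mem_centralizer_iff]
              rintro y ⟨i, rfl⟩
              have h11 : Commute z x := (mem_centralizer_singleton_iff.1 (hXD hx)).symm
              exact (h11.zpow_left i).eq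
            have hzz : zpowers z ≤ centralizer ((zpowers z : Subgroup K) : Set K) := by
              rw [zpowers_le, mem_centralizer_iff]
              rintro y ⟨i, rfl⟩
              exact ((Commute.refl z).zpow_left i).eq
            have h11 : X ≤ centralizer (Y : Set K) := by
              rw [Subgroup.le_centralizer_iff]
              refine sup_le ?_ ?_
              · rw [Subgroup.le_centralizer_iff]; exact hXX
              · rw [Subgroup.le_centralizer_iff]; exact hXz
            have h12 : zpowers z ≤ centralizer (Y : Set K) := by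
              rw [Subgroup.le_centralizer_iff]
              refine sup_le hXz hzz
            exact sup_le h11 h12
          intro x hx y hy
          exact mem_centralizer_iff.1 (h10 hy) x hx
        exact hYab a (by rw [hYeq]; exact mem_centralizer_singleton_iff.2 ha) b
          (by rw [hYeq]; exact mem_centralizer_singleton_iff.2 hb)
      -- the order of `N` is a power of 2
      have h9 : Nat.card N = 4 := by
        by_contra hne
        obtain ⟨m, hm⟩ := h4
        have hm1 : m ≠ 1 := by
          rintro rfl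
          exact hne (by rw [hm])
        obtain ⟨q, hq, hqm⟩ := Nat.exists_prime_and_dvd hm1
        have hq2 : q ≠ 2 := by
          rintro rfl
          apply h5
          rw [hm]
          exact (by norm_num : (8 : ℕ) ∣ 4 * 2).trans (Nat.mul_dvd_mul_left 4 hqm)
        have hqN : q ∣ Nat.card N := by rw [hm]; exact Dvd.dvd.mul_left hqm 4
        obtain ⟨Z, hZ, hZN, ⟨k, hk⟩, hZd⟩ := exists_sylow hN hnil hq
        have h10 := hZd 1 (by rw [pow_one]; exact hqN)
        rw [pow_one] at h10
        have hFq : Fact q.Prime := ⟨hq⟩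
        obtain ⟨n, hn⟩ := exists_prime_orderOf_dvd_card' q h10
        have hcop' : Nat.Coprime (Nat.card X) (Nat.card Z) := by
          rw [h7, hk]
          refine Nat.Coprime.pow_right k ?_
          have h12 : Nat.Coprime (2 ^ 2) q := Nat.Coprime.pow_left 2 ((Nat.coprime_primes Nat.prime_two hq).2 hq2.symm)
          norm_num at h12
          exact h12
        have hdis : Disjoint X Z := disjoint_iff.2 (Subgroup.inf_eq_bot_of_coprime hcop')
        have h11 := Subgroup.commute_of_normal_of_disjoint X Z hX hZ hdis z n hzX n.2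
        have h12 : (n : K) ∈ centralizer ({z} : Set K) := mem_centralizer_singleton_iff.2 h11.symm.eq
        have h13 : q ∣ 8 := by
          rw [← O.card, ← hn, ← Subgroup.orderOf_coe, ← Subgroup.orderOf_mk (n : K) h12]
          exact orderOf_dvd_natCard _
        have h14 : q ∣ 2 ^ 3 := by norm_num; exact h13
        exact hq2 ((Nat.prime_dvd_prime_iff_eq hq Nat.prime_two).1 (hq.dvd_of_dvd_pow h14))
      rw [← h2, h9]
  · exfalso
    have h60 : N.index = 60 := by
      show Nat.card (K ⧸ N) = 60
      rw [Nat.card_congr e.toEquiv, card_alt_five]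
    have h1 := N.card_mul_index
    rw [h60] at h1
    have hNp : IsPGroup 2 N := fun n => ⟨1, Subtype.ext (by
      rw [pow_one]; exact hsq n n.2)⟩
    obtain ⟨k, hk⟩ := IsPGroup.iff_card.1 hNp
    have h2 : 2 ∣ Nat.card N := by
      rw [← h1] at h8
      omega
    have h4 : ¬ 4 ∣ Nat.card N := by
      intro h4
      apply h16
      rw [← h1]
      omega
    have h5 : Nat.card N = 2 := by
      have h6 : k < 2 := by
        by_contra hk2
        apply h4
        have h7 : 2 ^ 2 ∣ Nat.card N := by rw [hk]; exact pow_dvd_pow 2 (by omega)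
        norm_num at h7
        exact h7
      interval_cases k
      · rw [hk] at h2; norm_num at h2
      · rw [hk]; norm_num
    have h6 := Cfsg.Agent.H241.NH.comm_of_normal Nat.prime_three Nat.prime_two (by norm_num) hN h5 hv
    obtain ⟨n, hn⟩ := exists_prime_orderOf_dvd_card' 2 (show 2 ∣ Nat.card N from h2)
    have h7 := order_of_mem_zpowers (hC _ (h6 n n.2))
    rw [Subgroup.orderOf_coe, hn, hv] at h7
    norm_num at h7
  · exfalso
    have hF7 : Fact (Nat.Prime 7) := ⟨by norm_num⟩
    -- an element of order 4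
    obtain ⟨c, hcz, hcc⟩ : ∃ c : K, c * z = z * c ∧ c * c ≠ 1 := by
      by_contra hno
      push Not at hno
      obtain ⟨a, b, ha, hb, hab⟩ := O.na
      apply hab
      have h1 := hno a ha
      have h2 := hno b hb
      have h4 := hno (a * b) (by
        have ha' : Commute a z := ha
        have hb' : Commute b z := hb
        exact (ha'.mul_left hb').eq)
      have ha1 : a⁻¹ = a := inv_eq_of_mul_eq_one_left h1
      have hb1 : b⁻¹ = b := inv_eq_of_mul_eq_one_left h2
      calc a * b = (a * b)⁻¹ := (inv_eq_of_mul_eq_one_left h4).symm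
        _ = b⁻¹ * a⁻¹ := mul_inv_rev a b
        _ = b * a := by rw [ha1, hb1]
    have hsq := O.sq hcz hcc
    have hc4 : orderOf c = 4 := by
      have h1 : orderOf c = 2 ^ (1 + 1) := by
        apply orderOf_eq_prime_pow
        · rw [pow_one, pow_two, hsq]; exact O.ne_one
        · have : c ^ 2 ^ (1 + 1) = (c * c) * (c * c) := by
            norm_num
            rw [show (4 : ℕ) = 2 + 2 from rfl, pow_add, pow_two]
          rw [this, hsq, O.mul_self]
      rw [h1]; norm_num
    have hQP : zpowers c ≤ (P : Subgroup K) := by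
      rw [hPz, zpowers_le]
      exact mem_centralizer_singleton_iff.2 hcz
    have hQi : (zpowers c).relIndex (P : Subgroup K) = 2 := by
      have h1 : Nat.card (zpowers c) * (zpowers c).relIndex (P : Subgroup K) = Nat.card (P : Subgroup K) := by
        have h2 := ((zpowers c).subgroupOf (P : Subgroup K)).card_mul_index
        rw [← h2]
        congr 1
        exact (Nat.card_congr (Subgroup.subgroupOfEquivOfLe hQP).toEquiv).symm
      rw [Nat.card_zpowers, hc4, hPc] at h1
      omega
    rcases Cfsg.Agent.Transfer.ThompsonTransfer.thompson_transfer P (zpowers c) hQP hQi t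
      (by rw [← ht, pow_orderOf_eq_one]) with ⟨M, hM, hM2, -⟩ | ⟨g, hg⟩
    · have hsimp : IsSimpleGroup (Matrix.ProjectiveSpecialLinearGroup (Fin 2) (ZMod 7)) :=
        Matrix.ProjectiveSpecialLinearGroup.rank_two_simple (by rw [Nat.card_eq_fintype_card, ZMod.card]; norm_num)
      have hKs : IsSimpleGroup K := e.isSimpleGroup
      rcases hM.eq_bot_or_eq_top with h | h
      · rw [h, Subgroup.index_bot] at hM2
        rw [hM2] at h8
        norm_num at h8
      · rw [h, Subgroup.index_top] at hM2
        norm_num at hM2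
    · obtain ⟨k, hk⟩ := hg
      have hk : c ^ k = g * t * g⁻¹ := hk
      have h1 : orderOf (g * t * g⁻¹) = 2 := orderOf_conj' g ht
      have h2 : c ^ (k * 2) = 1 := by
        rw [zpow_mul, hk]
        have : (g * t * g⁻¹) ^ 2 = 1 := by rw [← h1, pow_orderOf_eq_one]
        exact_mod_cast this
      have h4 : (4 : ℤ) ∣ k * 2 := by
        have := orderOf_dvd_iff_zpow_eq_one.2 h2
        rw [hc4] at this
        exact_mod_cast this
      obtain ⟨j, hj⟩ : (2 : ℤ) ∣ k := by omega
      have h5 : g * t * g⁻¹ = z ^ j := by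
        rw [← hk, hj, zpow_mul]
        congr 1
        rw [← hsq]
        exact_mod_cast pow_two c
      have h6 : z ^ j = z := by
        rcases Int.even_or_odd j with ⟨i, hi⟩ | ⟨i, hi⟩
        · exfalso
          have h7 : z ^ j = 1 := by
            rw [hi, ← two_mul, zpow_mul]
            have : z ^ (2 : ℤ) = 1 := by
              have := O.mul_self
              rw [← pow_two] at this
              exact_mod_cast this
            rw [this, one_zpow]
          rw [h5, h7, orderOf_one] at h1
          norm_num at h1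
        · rw [hi, zpow_add, zpow_mul, zpow_one]
          have : z ^ (2 : ℤ) = 1 := by
            have := O.mul_self
            rw [← pow_two] at this
            exact_mod_cast this
          rw [this, one_zpow, one_mul]
      apply hzt g⁻¹
      rw [← h6, ← h5]
      group

end

end Cfsg.Agent.H715.Mon.Grp
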